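import Cfsg.Agent.O8.Frame
import Cfsg.Agent.O8.Data

/-! A basis of the extraspecial group. -/

set_option autoImplicit false
set_option linter.unusedSectionVars false

namespace Cfsg.Agent.O8

open Subgroup Cfsg.Agent.Local Equiv Cfsg.Agent.Mat

variable {G : Type*} [Group G] [Finite G] {t w : G} {Q Q' E : Subgroup G} {φ φ' : G → Fin 3 → S3} {e τ : Fin 3 → G}
  {gs : List G}

/-- A letter. -/
abbrev gg (gs : List G) (a : ℕ) : G := gs.getD a 1

theorem ev_rev {u : List ℕ} (h : ∀ a ∈ u, gg gs a * gg gs a = 1) : ev gs u.reverse = (ev gs u)⁻¹ := by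
  induction u with
  | nil => exact inv_one.symm
  | cons a u ih =>
    rw [List.reverse_cons, ev_append, ih fun b hb => h b (List.mem_cons_of_mem _ hb), ev, ev, ev, mul_one, mul_inv_rev,
      inv_eq_of_mul_eq_one_right (h a List.mem_cons_self)]

theorem ev_rep (gs : List G) (n a : ℕ) : ev gs (List.replicate n a) = gg gs a ^ n := by
  induction n with
  | zero => exact (pow_zero _).symm
  | succ n ih => rw [List.replicate_succ, ev, ih, pow_succ']

theorem ev_mem' {K : Subgroup G} {u : List ℕ} (h : ∀ a ∈ u, gg gs a ∈ K) : ev gs u ∈ K := by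
  induction u with
  | nil => exact one_mem K
  | cons a u ih => exact mul_mem (h a List.mem_cons_self) (ih fun b hb => h b (List.mem_cons_of_mem _ hb))

/-- A commutator. -/
def cw (u : List ℕ) (x : ℕ) : List ℕ := u ++ [x] ++ u.reverse ++ [x]

theorem ev_cw {u : List ℕ} (h : ∀ a ∈ u, gg gs a * gg gs a = 1) (x : ℕ) (v : List ℕ) :
    ev gs (cw u x ++ v) = ev gs u * gg gs x * (ev gs u)⁻¹ * gg gs x * ev gs v := by
  simp only [cw, ev_append, ev_rev h, ev, mul_one]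

theorem cw_one {u : List ℕ} (h : ∀ a ∈ u, gg gs a * gg gs a = 1) {x : ℕ} (hx : gg gs x * gg gs x = 1) :
    ev gs (cw u x) = 1 ↔ ev gs u * gg gs x = gg gs x * ev gs u := by
  rw [← List.append_nil (cw u x), ev_cw h, ev, mul_one, mul_eq_one_iff_eq_inv, inv_eq_of_mul_eq_one_right hx,
    mul_inv_eq_iff_eq_mul]

theorem cw_mul {u : List ℕ} (h : ∀ a ∈ u, gg gs a * gg gs a = 1) {x y : ℕ} (hx : gg gs x * gg gs x = 1)
    (hy : gg gs y * gg gs y = 1) (hc : gg gs x * gg gs y = gg gs y * gg gs x) :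
    ev gs (cw u x ++ [y]) = 1 ↔ ev gs u * gg gs x * (ev gs u)⁻¹ = gg gs x * gg gs y := by
  rw [ev_cw h, ev, ev, mul_one, mul_assoc, mul_eq_one_iff_eq_inv, mul_inv_rev, inv_eq_of_mul_eq_one_right hx,
    inv_eq_of_mul_eq_one_right hy, hc]

/-- The basis letters. -/
def bs : List ℕ := [1, 2, 3, 4, 5, 6, 7, 11]

/-- A hyperbolic basis. -/
structure Bas (t : G) (Q : Subgroup G) (gs : List G) : Prop where
  g0 : gg gs 0 = t
  mem : ∀ a ∈ bs, gg gs a ∈ Q
  sq : ∀ a ∈ bs, gg gs a * gg gs a = 1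
  rel : ∀ r ∈ cmB, ev gs r = 1

/-- Commuting letters. -/
def com (x y : ℕ) (v : List ℕ) : Bool :=
  bs.contains x && bs.contains y && (cmB.contains ([x, y, x, y] ++ v) || cmB.contains ([y, x, y, x] ++ v))

/-- A good list of pairs. -/
def okL : List (ℕ × ℕ) → Bool
  | [] => true
  | p :: L => com p.1 p.2 [0] && L.all (fun q => p.1 == q.2 || com p.1 q.2 []) && okL L

/-- The centralizer of a list. -/
def Zs (Q : Subgroup G) (gs : List G) : List (ℕ × ℕ) → Subgroup G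
  | [] => Q
  | p :: L => Zs Q gs L ⊓ Ce (gg gs p.2)

theorem mem_Zs {L : List (ℕ × ℕ)} {x : G} : x ∈ Zs Q gs L ↔ x ∈ Q ∧ ∀ p ∈ L, x * gg gs p.2 = gg gs p.2 * x := by
  induction L with
  | nil => simp [Zs]
  | cons p L ih => rw [Zs, mem_inf, ih, mC, List.forall_mem_cons]; tauto

/-- Doubling. -/
def dbl (x : ℕ) (U : List (List ℕ)) : List (List ℕ) := U ++ U.map (· ++ [x])

/-- Subwords. -/
def wds : List ℕ → List (List ℕ) → List (List ℕ)
  | [], U => U
  | x :: l, U => wds l (dbl x U)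

/-- Normal forms. -/
def UD : List (List ℕ) := wds [1, 2, 3, 4] [[], [0]]

/-- Normal forms. -/
def UQ : List (List ℕ) := wds [1, 2, 3, 4, 5, 6, 7, 11] [[], [0]]

/-- Normal forms. -/
def US : List (List ℕ) := wds [8, 9, 10] UQ

theorem dbl_pow {U : List (List ℕ)} {q : G} (h : ∃ u ∈ U, q = ev gs u) (x : ℕ) {k : ℕ} (hk : k < 2) :
    ∃ u ∈ dbl x U, q * gg gs x ^ k = ev gs u := by
  obtain ⟨u, hu, rfl⟩ := h
  interval_cases k
  · exact ⟨u, List.mem_append_left _ hu, by simp⟩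
  · exact ⟨_, List.mem_append_right _ (List.mem_map_of_mem hu), by simp [ev_append, ev]⟩

namespace Bas

theorem com0 (B : Bas t Q gs) {x y : ℕ} (h : com x y [] = true) : gg gs x * gg gs y = gg gs y * gg gs x := by
  simp only [com, Bool.and_eq_true, Bool.or_eq_true, List.contains_iff_mem] at h
  have k : ∀ x y, x ∈ bs → y ∈ bs → [x, y, x, y] ++ [] ∈ cmB → gg gs x * gg gs y = gg gs y * gg gs x :=
    fun x y hx hy h => by simpa [ev] using (cw_one (u := [x]) (by simpa using B.sq x hx) (B.sq y hy)).mp (B.rel _ h)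
  exact h.2.elim (k x y h.1.1 h.1.2) fun e => (k y x h.1.2 h.1.1 e).symm

theorem com1 (B : Bas t Q gs) (H : Hyp t Q φ) {x y : ℕ} (h : com x y [0] = true) :
    gg gs x ∈ Q ∧ gg gs y ∈ Q ∧ gg gs x * gg gs x = 1 ∧ gg gs x * gg gs y ≠ gg gs y * gg gs x := by
  simp only [com, Bool.and_eq_true, Bool.or_eq_true, List.contains_iff_mem] at h
  have k : ∀ x y, x ∈ bs → y ∈ bs → [x, y, x, y] ++ [0] ∈ cmB → gg gs x * gg gs y ≠ gg gs y * gg gs x :=
    fun x y hx hy h e => H.t1 (by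
      have := B.rel _ h
      rwa [show [x, y, x, y] = cw [x] y from rfl, ev_append, (cw_one (by simpa using B.sq x hx) (B.sq y hy)).mpr
        (by simpa [ev] using e), one_mul, ev, ev, mul_one, ← gg, B.g0] at this)
  exact ⟨B.mem x h.1.1, B.mem y h.1.2, B.sq x h.1.1, h.2.elim (k x y h.1.1 h.1.2) fun e => (k y x h.1.2 h.1.1 e).symm⟩

theorem anti (B : Bas t Q gs) (H : Hyp t Q φ) {x y : ℕ} (h : com x y [0] = true) :
    gg gs x * gg gs y * (gg gs x)⁻¹ = gg gs y * t :=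
  (H.cj (B.com1 H h).1 (B.com1 H h).2.1).resolve_left fun e => (B.com1 H h).2.2.2 (mul_inv_eq_iff_eq_mul.mp e)

theorem ok (B : Bas t Q gs) (H : Hyp t Q φ) {p : ℕ × ℕ} {L : List (ℕ × ℕ)} (h : okL (p :: L) = true) :
    com p.1 p.2 [0] = true ∧ gg gs p.1 ∈ Zs Q gs L ∧ okL L = true := by
  simp only [okL, Bool.and_eq_true, List.all_eq_true, Bool.or_eq_true, beq_iff_eq] at h
  exact ⟨h.1.1, mem_Zs.mpr ⟨(B.com1 H h.1.1).1, fun q hq => (h.1.2 q hq).elim (fun e => by rw [e]) B.com0⟩, h.2⟩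

theorem cardZ (B : Bas t Q gs) (H : Hyp t Q φ) {L : List (ℕ × ℕ)} (h : okL L = true) :
    2 ^ L.length * Nat.card (Zs Q gs L) ≤ 512 := by
  induction L with
  | nil => simpa [Zs] using H.card.le
  | cons p L ih =>
    obtain ⟨h1, h2, h3⟩ := B.ok H h
    have := half h2 (B.com1 H h1).2.2.2
    rw [List.length_cons, pow_succ, mul_assoc]
    exact (Nat.mul_le_mul_left _ this).trans (ih h3)

theorem nf (B : Bas t Q gs) (H : Hyp t Q φ) {L L' : List (ℕ × ℕ)} (h : okL (L ++ L') = true) {U : List (List ℕ)}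
    (hU : ∀ q ∈ Zs Q gs (L ++ L'), ∃ u ∈ U, q = ev gs u) :
    ∀ q ∈ Zs Q gs L', ∃ u ∈ wds (L.map Prod.fst) U, q = ev gs u := by
  induction L generalizing U with
  | nil => exact hU
  | cons p L ih =>
    obtain ⟨h1, h2, h3⟩ := B.ok H h
    obtain ⟨a, b, c, d⟩ := B.com1 H h1
    refine ih h3 fun q hq => ?_
    by_cases e : q * gg gs p.2 = gg gs p.2 * q
    · simpa using dbl_pow (hU q ⟨hq, mC.mpr e⟩) p.1 Nat.two_pos
    · have := dbl_pow (hU _ ⟨mul_mem hq h2, mC.mpr (H.cm_mul b (mem_Zs.mp hq).1 a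
        ⟨fun k => (e k.symm).elim, fun k => (d k.symm).elim⟩).symm⟩) p.1 Nat.one_lt_two
      rwa [pow_one, mul_assoc, c, mul_one] at this

theorem cen (B : Bas t Q gs) (H : Hyp t Q φ) {q : G} (hq : q ∈ Q) (h : ∀ a ∈ bs, q * gg gs a = gg gs a * q) :
    q = 1 ∨ q = t := by
  have h1 := B.cardZ H (L := [(1, 11), (2, 5), (3, 6), (4, 7), (5, 2), (6, 3), (7, 4), (11, 1)]) (by decide)
  have k : ∀ p ∈ [(1, 11), (2, 5), (3, 6), (4, 7), (5, 2), (6, 3), (7, 4), (11, 1)], p.2 ∈ bs := by decide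
  simpa using M12C.mem_of_nodup (l := [1, t]) (by simpa using H.t1.symm) (by
    simpa using mem_Zs.mpr ⟨H.tQ, fun p hp => (mC.mp (H.le (B.mem _ (k p hp)))).symm⟩)
    (by simp at h1 ⊢; omega) q (mem_Zs.mpr ⟨hq, fun p hp => h _ (k p hp)⟩)

theorem nf0 (B : Bas t Q gs) (H : Hyp t Q φ) :
    ∀ q ∈ Zs Q gs [(1, 11), (2, 5), (3, 6), (4, 7), (5, 2), (6, 3), (7, 4), (11, 1)], ∃ u ∈ [[], [0]], q = ev gs u :=
  fun q hq => by
    have := mem_Zs.mp hq
    simpa [ev, ← B.g0] using B.cen H this.1 (by simp only [bs, List.forall_mem_cons] at this ⊢; tauto)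

theorem nfQ (B : Bas t Q gs) (H : Hyp t Q φ) {q : G} (hq : q ∈ Q) : ∃ u ∈ UQ, q = ev gs u :=
  B.nf H (L := [(1, 11), (2, 5), (3, 6), (4, 7), (5, 2), (6, 3), (7, 4), (11, 1)]) (L' := []) (by decide) (B.nf0 H) q hq

theorem nfD (B : Bas t Q gs) (H : Hyp t Q φ) {K : Subgroup G} (hK : ∀ a < 5, gg gs a ∈ K) {q : G} (hq : q ∈ Q)
    (h : ∀ a ∈ [2, 3, 4, 1], q * gg gs a = gg gs a * q) : q ∈ K := by
  obtain ⟨u, hu, rfl⟩ := B.nf H (L := [(1, 11), (2, 5), (3, 6), (4, 7)]) (by decide) (B.nf0 H) q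
    (mem_Zs.mpr ⟨hq, by simpa using h⟩)
  exact ev_mem' fun a ha => hK a ((by decide : ∀ u ∈ UD, ∀ a ∈ u, a < 5) u hu a ha)

end Bas

/-- The letters. -/
def gl (t w : G) (e τ : Fin 3 → G) (x0 x1 x2 x3 : G) : List G :=
  [t, w, (e 0)⁻¹ * w * e 0, (e 1)⁻¹ * w * e 1, (e 2)⁻¹ * w * e 2, (e 1 * e 2)⁻¹ * w * (e 1 * e 2),
    (e 0 * e 2)⁻¹ * w * (e 0 * e 2), (e 0 * e 1)⁻¹ * w * (e 0 * e 1), τ 0, τ 1, τ 2,
    (e 0 * e 1 * e 2)⁻¹ * w * (e 0 * e 1 * e 2), x0, x1, x2, x3, e 0, (e 0)⁻¹, e 1, (e 1)⁻¹, e 2, (e 2)⁻¹]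

/-- The letters of the first stage. -/
def gA (t w : G) (e τ : Fin 3 → G) : List G := gl t w e τ (τ 0)⁻¹ (τ 1)⁻¹ (τ 2)⁻¹ 1

/-- The letters of the second stage. -/
def gB (t w : G) (e τ : Fin 3 → G) (m : G) : List G := gl t w e τ m (τ 0 * e 0) (τ 1 * e 1) (τ 2 * e 2)

theorem gl_congr (m : G) {r : List ℕ} (h : ∀ a ∈ r, a < 12 ∨ 15 < a) : ev (gB t w e τ m) r = ev (gA t w e τ) r :=
  ev_congr fun a ha => by
    rcases h a ha with h | h
    · interval_cases a <;> rfl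
    · obtain ⟨k, rfl⟩ := Nat.exists_eq_add_of_lt h
      rw [show 15 + k + 1 = k + 16 by omega]
      rfl

/-- A trace. -/
def pw (w x : G) : G := w * (x⁻¹ * w * x) * (x * w * x⁻¹)

theorem pw_t {x : G} (tt : t * t = 1) (hw : w ∈ Ce t) (hx : x ∈ Ce t) : pw (w * t) x = pw w x * t := by
  have k : ∀ y ∈ Ce t, ∀ z, t * (y * z) = y * (t * z) := fun y hy z => by rw [← mul_assoc, ← mC.mp hy, mul_assoc]
  simp only [pw, mul_assoc, k w hw, k x hx, k _ (inv_mem hx), ← mC.mp (inv_mem hx), tt, mul_one]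

/-- The words of the commutators of conjugates. -/
def bw (n : ℕ) : List ℕ :=
  List.replicate (n / 9) 21 ++ List.replicate (n / 3 % 3) 19 ++ List.replicate (n % 3) 17 ++ [1] ++
    List.replicate (n % 3) 16 ++ List.replicate (n / 3 % 3) 18 ++ List.replicate (n / 9) 20

theorem Mp.relA (M : Mp t w Q Q' φ φ') (F : Ef t φ E e) (τ : Fin 3 → G) : ∀ r ∈ RA0, ev (gA t w e τ) r = 1 := by
  have ww : ∀ x, w * (w * x) = x := fun x => by rw [← mul_assoc, M.H'.tt, one_mul]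
  have k : ∀ y ∈ Ce t, ∀ z, t * (y * z) = y * (t * z) := fun y hy z => by rw [← mul_assoc, ← mC.mp hy, mul_assoc]
  have c : ∀ i j z, e i * (e j * ((e i)⁻¹ * z)) = e j * z := fun i j z => by
    rw [← mul_assoc, F.cm M.H (F.mem i) (F.mem j), mul_assoc, mul_inv_cancel_left]
  have c3 : ∀ i, e i * (e i * e i) = 1 := fun i => by rw [← F.cube M.H (F.mem i), pow_three]
  simp only [RA0, List.forall_mem_append]
  refine ⟨⟨⟨?_, ?_⟩, ?_⟩, fun r hr => ?_⟩
  · simp [invA, gA, gl, ev, mul_assoc, ww, M.H.tt, M.H'.tt]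
  · simp [base, gA, gl, ev, k w (M.H.le M.wQ), k _ (F.C _), c, c3, ← mul_assoc t t, M.H.tt, M.H'.tt]
  · simp [defs, gA, gl, ev, mul_assoc, ww]
  · obtain ⟨n, hn, rfl⟩ := List.mem_map.mp ((by decide : beta = (List.range 27).map fun n => [1] ++ bw n ++ [1] ++ bw n ++
      if n % 3 = 0 ∨ n / 3 % 3 = 0 ∨ n / 9 = 0 then [] else [0]) ▸ hr)
    have hn' := List.mem_range.mp hn
    have h1 := F.beta M ![n % 3, n / 3 % 3, n / 9] fun j => by fin_cases j <;> simp <;> omega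
    have h2 := M.H.nrm' (ex_mem F.C ![n % 3, n / 3 % 3, n / 9]) M.wQ
    have h3 : ev (gA t w e τ) (bw n) = (ex e ![n % 3, n / 3 % 3, n / 9])⁻¹ * w * ex e ![n % 3, n / 3 % 3, n / 9] := by
      simp only [bw, ev_append, ev_rep]
      simp [gA, gl, ev, ex, mul_assoc]
    have h4 : ev (gA t w e τ) (bw n) * ev (gA t w e τ) (bw n) = 1 := by rw [h3]; simp [mul_assoc, ww]
    rw [← h3] at h1 h2
    simp only [ev_append, show ev (gA t w e τ) [1] = w from mul_one w]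
    generalize ev (gA t w e τ) (bw n) = y at *
    simp only [Fin.exists_fin_succ, Matrix.cons_val_zero, Matrix.cons_val_succ, IsEmpty.exists_iff, or_false] at h1
    split_ifs with h
    · rw [ev, mul_one, mul_assoc w, ← h1.mpr h, ww, h4]
    · rw [show ev (gA t w e τ) [0] = t from mul_one t, mul_assoc _ w, mul_assoc _ _ t, mul_assoc w y, mul_assoc w y,
        ← mul_assoc w y t, (M.H.cm y h2 w M.wQ).resolve_left (fun e => h (h1.mp e.symm)) |>.symm, ← mul_assoc y y, h4,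
        one_mul, M.H'.tt]

theorem Mp.bas (M : Mp t w Q Q' φ φ') (F : Ef t φ E e) (τ : Fin 3 → G) : Bas t Q (gA t w e τ) := by
  have c := F.C
  refine ⟨rfl, ?_, fun a ha => by
    simpa [ev] using M.relA F τ [a, a] ((by decide : ∀ a ∈ bs, [a, a] ∈ RA0) a ha), der derA0 rfl (M.relA F τ)⟩
  simp only [bs, List.forall_mem_cons]
  exact ⟨M.wQ, M.H.nrm' (c _) M.wQ, M.H.nrm' (c _) M.wQ, M.H.nrm' (c _) M.wQ, M.H.nrm' (mul_mem (c _) (c _)) M.wQ,
    M.H.nrm' (mul_mem (c _) (c _)) M.wQ, M.H.nrm' (mul_mem (c _) (c _)) M.wQ,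
    M.H.nrm' (mul_mem (mul_mem (c _) (c _)) (c _)) M.wQ, by simp⟩

theorem ev_pp (i : Fin 3) : ev (gA t w e τ) (pp.getD i []) = pw w (e i) := by
  fin_cases i <;> simp [pp, gA, gl, ev, pw, mul_assoc]

theorem Mp.trace (M : Mp t w Q Q' φ φ') (F : Ef t φ E e) : (∀ i, pw w (e i) = 1) ∨ ∀ i, pw w (e i) = t := by
  have B := M.bas F e
  have R : ∀ r ∈ RA0 ++ cmB, ev (gA t w e e) r = 1 := List.forall_mem_append.mpr ⟨M.relA F e, B.rel⟩
  have h1 : ∀ i, pw w (e i) = 1 ∨ pw w (e i) = t := fun i => B.cen M.H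
    (mul_mem (mul_mem M.wQ (M.H.nrm' (F.C i) M.wQ)) (M.H.nrm (F.C i) M.wQ)) fun a ha => by
      have := der derA1 rfl R (by decide) _ ((by decide : ∀ i : Fin 3, ∀ a ∈ bs, pp.getD i [] ++ [a] ++
        [16 + 2 * i.1, 1, 17 + 2 * i.1, 17 + 2 * i.1, 1, 16 + 2 * i.1, 1] ++ [a] ∈ pc) i a ha)
      rw [ev_append, ev_append, ev_append, ev_pp, show ev (gA t w e e) [16 + 2 * i.1, 1, 17 + 2 * i.1, 17 + 2 * i.1, 1,
        16 + 2 * i.1, 1] = (pw w (e i))⁻¹ by fin_cases i <;> simp [gA, gl, ev, pw, mul_assoc, M.H'.ti], ev, ev, mul_one,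
        mul_eq_one_iff_eq_inv, inv_eq_of_mul_eq_one_right (B.sq a ha)] at this
      exact mul_inv_eq_iff_eq_mul.mp this
  have h2 : ∀ i, pw w (e i) = t → ev (gA t w e e) (pp.getD i [] ++ [0]) = 1 := fun i h => by
    rw [ev_append, ev_pp, h]; exact (mul_assoc _ _ _).symm.trans (by rw [← gg, B.g0, M.H.tt, ev, one_mul])
  have h3 : ∀ j : Fin 3, pw w (e j) = pw w (e 0) := fun j => by
    by_cases j0 : j = 0
    · rw [j0]
    have k : ev (gA t w e e) [0] ≠ 1 := fun e => M.H.t1 ((mul_one t).symm.trans e)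
    rcases h1 0 with a | a <;> rcases h1 j with b | b <;> rw [a, b]
    · exact (k (cond kcA_ok rfl R ((by decide +kernel : ∀ j : Fin 3, j ≠ 0 → ([pp.getD (0 : Fin 3) [], pp.getD j [] ++ [0]],
        [0]) ∈ kcA.map Prod.fst) j j0) (by simp only [List.forall_mem_cons, ev_pp, a, h2 j b]; simp))).elim
    · exact (k (cond kcA_ok rfl R ((by decide +kernel : ∀ j : Fin 3, j ≠ 0 → ([pp.getD (0 : Fin 3) [] ++ [0], pp.getD j []],
        [0]) ∈ kcA.map Prod.fst) j j0) (by simp only [List.forall_mem_cons, ev_pp, b, h2 0 a]; simp))).elim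
  exact (h1 0).imp (fun a j => (h3 j).trans a) fun a j => (h3 j).trans a

end Cfsg.Agent.O8
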