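import Cfsg.Agent.O8.Bas
import Cfsg.Agent.O8.Tab
import Cfsg.Agent.Mat.Model
import Cfsg.Prelude.Def_Classical

/-! The matrix model of `Ω₈⁺(2)`. -/

set_option autoImplicit false
set_option maxRecDepth 100000
set_option synthInstance.maxSize 4000

namespace Cfsg.Agent.O8

open Subgroup Cfsg.Agent.Mat Matrix MulAction

/-- The index set. -/
abbrev I8 := Fin 4 ⊕ Fin 4

/-- The orthogonal group. -/
abbrev O := isometryGroup (ZMod 2) (quadFormPlus 4 (ZMod 2))

/-- Positions of the coordinates. -/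
def ix : I8 → ℕ := Sum.elim (·.1) (4 + ·.1)

/-- The vector with a given number. -/
def vec (n : ℕ) : I8 → ZMod 2 := fun i => if n.testBit (ix i) then 1 else 0

theorem vec_xor (a b : ℕ) : vec (a ^^^ b) = vec a + vec b := funext fun i => by
  simp only [vec, Nat.testBit_xor, Pi.add_apply]
  cases a.testBit (ix i) <;> cases b.testBit (ix i) <;> decide

theorem vec_inj {a b : ℕ} (ha : a < 256) (hb : b < 256) (h : vec a = vec b) : a = b :=
  Nat.eq_of_testBit_eq fun i => by
    rcases lt_or_ge i 8 with h1 | h1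
    · obtain ⟨j, rfl⟩ := (by decide : ∀ i < 8, ∃ j, ix j = i) i h1
      have := congrFun h j
      simp only [vec] at this
      revert this
      cases a.testBit (ix j) <;> cases b.testBit (ix j) <;> decide
    · have : 256 ≤ 2 ^ i := Nat.pow_le_pow_right (n := 2) (by decide) h1
      rw [Nat.testBit_lt_two_pow (ha.trans_le this), Nat.testBit_lt_two_pow (hb.trans_le this)]

theorem vec_surj (v : I8 → ZMod 2) : ∃ n < 256, vec n = v := by
  obtain ⟨n, h⟩ := ((Nat.bijective_iff_injective_and_card fun n : Fin 256 => vec n).mpr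
    ⟨fun a b h => Fin.ext (vec_inj a.2 b.2 h), by simp⟩).2 v
  exact ⟨n, n.2, h⟩

theorem vec_zero : vec 0 = 0 := funext fun i => by simp [vec]

/-- The quadratic form. -/
def qn (n : ℕ) : Bool :=
  xor (xor (n.testBit 0 && n.testBit 4) (n.testBit 1 && n.testBit 5))
    (xor (n.testBit 2 && n.testBit 6) (n.testBit 3 && n.testBit 7))

theorem q_vec (n : ℕ) : quadFormPlus 4 (ZMod 2) (vec n) = if qn n then 1 else 0 := by
  simp only [quadFormPlus, Fin.sum_univ_four, vec, ix, qn, Sum.elim_inl, Sum.elim_inr]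
  exact (by decide : ∀ a b c d e f g h : Bool, ((if a then 1 else 0) * (if e then 1 else 0) +
    (if b then 1 else 0) * (if f then 1 else 0) + (if c then 1 else 0) * (if g then 1 else 0) +
    (if d then 1 else 0) * (if h then 1 else 0) : ZMod 2) =
      if xor (xor (a && e) (b && f)) (xor (c && g) (d && h)) then 1 else 0) _ _ _ _ _ _ _ _

theorem q_smul (g : O) (v : I8 → ZMod 2) : quadFormPlus 4 (ZMod 2) (g • v) = quadFormPlus 4 (ZMod 2) v := g.2 v v

theorem qn_eq {g : O} {a b : ℕ} (h : g • vec a = vec b) : qn b = qn a := by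
  have := q_smul g (vec a)
  rw [h, q_vec, q_vec] at this
  revert this
  cases qn a <;> cases qn b <;> decide

/-- One step. -/
def st (a v : ℕ) : ℕ := @Bool.rec (fun _ => ℕ) v (lk Tb (Nat.add (Nat.mul 256 a) v)) (Nat.blt a 16)

theorem st_ok : ∀ a < 16, st a 0 = 0 ∧ ∀ v < 256, st a (st a v) = v ∧ qn (st a v) = qn v ∧
    ∀ k < 8, st a (v ^^^ 2 ^ k) = st a v ^^^ st a (2 ^ k) := by decide +kernel

theorem st_lt (a : ℕ) {v : ℕ} (hv : v < 256) : st a v < 256 := by
  unfold st
  cases Nat.blt a 16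
  exacts [hv, Nat.lt_succ_of_le Nat.and_le_right]

/-- The matrix of a generator. -/
def mat (a : ℕ) : Matrix I8 I8 (ZMod 2) := fun i j => vec (st a (2 ^ ix j)) i

theorem vec_pow : ∀ j, vec (2 ^ ix j) = Pi.single j 1 := by decide

theorem mat_vec {a : ℕ} (ha : a < 16) {v : ℕ} (hv : v < 256) : mat a *ᵥ vec v = vec (st a v) := by
  induction v using Nat.strong_induction_on with
  | _ v ih =>
    by_cases h : v = 0
    · rw [h, (st_ok a ha).1, vec_zero, mulVec_zero]
    obtain ⟨j, h1, h2⟩ := (by decide +kernel : ∀ v < 256, v ≠ 0 → ∃ j, v ^^^ 2 ^ ix j < v ∧ ix j < 8) v hv h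
    have h3 : v = v ^^^ 2 ^ ix j ^^^ 2 ^ ix j := by rw [Nat.xor_xor_cancel_right]
    rw [h3, (((st_ok a ha).2 _ (h1.trans hv)).2.2 _ h2), vec_xor, vec_xor (st _ _), mulVec_add, ih _ h1 (h1.trans hv),
      vec_pow, mulVec_single_one]
    rfl

theorem mat_sq {a : ℕ} (ha : a < 16) : mat a * mat a = 1 := by
  refine Matrix.ext_of_mulVec_single fun j => ?_
  have h : 2 ^ ix j < 256 := by revert j; decide
  rw [← mulVec_mulVec, ← vec_pow, mat_vec ha h, mat_vec ha (st_lt a h), ((st_ok a ha).2 _ h).1, one_mulVec]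

/-- The generators. -/
def gen (a : ℕ) : O := if h : a < 16 then ⟨⟨mat a, mat a, mat_sq h, mat_sq h⟩, fun u _ => by
  obtain ⟨n, hn, rfl⟩ := vec_surj u
  show quadFormPlus 4 (ZMod 2) (mat a *ᵥ vec n) = quadFormPlus 4 (ZMod 2) (vec n)
  rw [mat_vec h hn, q_vec, q_vec, ((st_ok a h).2 _ hn).2.1]⟩ else 1

/-- The list of generators. -/
def ms : List O := (List.range 16).map gen

theorem ms_get (a : ℕ) : ms.getD a 1 = gen a := by
  by_cases h : a < 16
  · rw [ms, List.getD_eq_getElem _ _ (by simpa using h), List.getElem_map, List.getElem_range]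
  · rw [List.getD_eq_default _ _ (by simpa [ms] using h), gen, dif_neg h]

theorem gen_vec (a : ℕ) {v : ℕ} (hv : v < 256) : gen a • vec v = vec (st a v) := by
  by_cases h : a < 16
  · rw [gen, dif_pos h]; exact mat_vec h hv
  · rw [gen, dif_neg h, one_smul, st, show Nat.blt a 16 = false from Bool.eq_false_iff.mpr fun e => h (Nat.blt_eq.mp e)]

theorem gen_sq (a : ℕ) : gg ms a * gg ms a = 1 := by
  rw [gg, ms_get, gen]
  split_ifs with h
  exacts [Subtype.ext (Units.ext (mat_sq h)), one_mul 1]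

/-- The action of a word. -/
def act (w : List ℕ) (v : ℕ) : ℕ := @List.rec ℕ (fun _ => ℕ) v (fun a _ ih => st a ih) w

theorem act_vec (w : List ℕ) {v : ℕ} (hv : v < 256) : act w v < 256 ∧ ev ms w • vec v = vec (act w v) := by
  induction w with
  | nil => exact ⟨hv, one_smul _ _⟩
  | cons a w ih => exact ⟨st_lt a ih.1, by rw [ev, mul_smul, ih.2, ms_get, gen_vec a ih.1]; rfl⟩

theorem eq_one {g : O} (h : ∀ k < 8, g • vec (2 ^ k) = vec (2 ^ k)) : g = 1 :=
  Subtype.ext (Units.ext (Matrix.ext_of_mulVec_single fun j => by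
    rw [← vec_pow]
    exact (h _ (by revert j; decide)).trans (one_mulVec _).symm))

/-- The word represents the identity. -/
def one (w : List ℕ) : Bool := allL (fun v => Nat.beq (act w v) v) [16, 32, 64, 128, 1, 2, 4, 8]

theorem one_iff {w : List ℕ} : one w = true ↔ ev ms w = 1 := by
  rw [one, allL_iff]
  refine ⟨fun h => eq_one fun k hk => ?_, fun h v hv => ?_⟩
  · have h1 := (by decide : ∀ k < 8, 2 ^ k < 256 ∧ 2 ^ k ∈ [16, 32, 64, 128, 1, 2, 4, 8]) k hk
    rw [(act_vec w h1.1).2, Nat.eq_of_beq_eq_true (h _ h1.2)]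
  · have h1 := act_vec w ((by decide : ∀ v ∈ [16, 32, 64, 128, 1, 2, 4, 8], v < 256) v hv)
    rw [h, one_smul] at h1
    exact Nat.beq_eq.mpr (vec_inj h1.1 ((by decide : ∀ v ∈ [16, 32, 64, 128, 1, 2, 4, 8], v < 256) v hv) h1.2.symm)

theorem ms_rel : ∀ r ∈ R, ev ms r = 1 := fun r hr => one_iff.mp ((by decide +kernel : ∀ r ∈ R, one r = true) r hr)

/-- Pointwise stabilizers. -/
def St : List ℕ → Subgroup O
  | [] => ⊤
  | x :: l => St l ⊓ stabilizer O (vec x)

theorem mem_St {l : List ℕ} {g : O} : g ∈ St l ↔ ∀ x ∈ l, g • vec x = vec x := by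
  induction l with
  | nil => simp [St]
  | cons x l ih => rw [St, mem_inf, ih, mem_stabilizer_iff, List.forall_mem_cons, and_comm]

/-- Upper bounds for orbits. -/
def up : List ℕ → ℕ
  | [] => 1
  | x :: l => up l * (List.range 256).countP fun v => v != 0 && qn v == qn x && l.all fun y => qn (v ^^^ y) == qn (x ^^^ y)

theorem ncard_le {s : Set (I8 → ZMod 2)} {p : ℕ → Bool} (h : ∀ v < 256, vec v ∈ s → p v = true) :
    s.ncard ≤ (List.range 256).countP p := by
  classical
  rw [List.countP_eq_length_filter, ← List.length_map vec]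
  refine (Set.ncard_le_ncard (t := (((List.range 256).filter p).map vec).toFinset) fun x hx => ?_).trans
    ((Set.ncard_coe_finset _).le.trans (List.toFinset_card_le _))
  obtain ⟨v, hv, rfl⟩ := vec_surj x
  exact List.mem_toFinset.mpr (List.mem_map_of_mem (List.mem_filter.mpr ⟨List.mem_range.mpr hv, h v hv hx⟩))

theorem card_up {l : List ℕ} (h : ∀ x ∈ l, vec x ≠ 0) : Nat.card O ≤ up l * Nat.card (St l) := by
  induction l with
  | nil => simp [up, St]
  | cons x l ih =>
    refine (ih fun y hy => h y (List.mem_cons_of_mem _ hy)).trans ?_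
    rw [up, mul_assoc, ← Pres.card_inf_stabilizer_mul (St l) (vec x), mul_comm (Nat.card _)]
    refine Nat.mul_le_mul_left _ (Nat.mul_le_mul_right _ (ncard_le ?_))
    rintro v - ⟨g, hg, e⟩
    simp only [Bool.and_eq_true, bne_iff_ne, beq_iff_eq, List.all_eq_true]
    refine ⟨⟨?_, qn_eq e⟩, fun y hy => qn_eq (g := g) (by rw [vec_xor, vec_xor, smul_add, e, mem_St.mp hg y hy])⟩
    rintro rfl
    exact h x List.mem_cons_self ((smul_eq_zero_iff_eq g).mp (e.trans vec_zero))

theorem card_O : Nat.card O ≤ 348364800 := by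
  have h1 := card_up (l := [128, 8, 64, 4, 32, 2, 16, 1]) (by decide)
  rwa [show St [128, 8, 64, 4, 32, 2, 16, 1] = ⊥ from eq_bot_iff.mpr fun g hg => eq_one fun k hk =>
    mem_St.mp hg _ (by revert k; decide), card_bot, mul_one, show up _ = 348364800 by decide +kernel] at h1

/-- Lower bounds for orbits. -/
def low : List (ℕ × List (List ℕ)) → Bool
  | [] => true
  | p :: L => low L && Nat.blt p.1 256 && ndM (p.2.map (act · p.1)) 0 &&
    p.2.all fun w => L.all fun q => Nat.blt q.1 256 && Nat.beq (act w q.1) q.1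

theorem card_low {L : List (ℕ × List (List ℕ))} (h : low L = true) :
    (L.map (·.2.length)).prod * Nat.card ↥(cl ms ⊓ St (L.map Prod.fst)) ≤ Nat.card (cl ms) := by
  induction L with
  | nil => simp [St]
  | cons p L ih =>
    simp only [low, Bool.and_eq_true, Nat.blt_eq, List.all_eq_true, Nat.beq_eq] at h
    obtain ⟨⟨⟨h1, h2⟩, h3⟩, h4⟩ := h
    refine le_trans ?_ (ih h1)
    rw [List.map_cons, List.prod_cons, List.map_cons, St, ← inf_assoc, mul_comm p.2.length, mul_assoc,
      ← Pres.card_inf_stabilizer_mul (cl ms ⊓ St _) (vec p.1), mul_comm (Nat.card _)]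
    refine Nat.mul_le_mul_left _ (Nat.mul_le_mul_right _ ?_)
    classical
    rw [← List.length_map (fun w => vec (act w p.1)), ← List.toFinset_card_of_nodup (by
      have := (ndM_spec h3).1.map_on (f := vec) fun a ha b hb e => by
        obtain ⟨u, -, rfl⟩ := List.mem_map.mp ha
        obtain ⟨v, -, rfl⟩ := List.mem_map.mp hb
        exact vec_inj (act_vec u h2).1 (act_vec v h2).1 e
      rwa [List.map_map] at this), ← Set.ncard_coe_finset]
    refine Set.ncard_le_ncard fun a ha => ?_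
    obtain ⟨w, hw, rfl⟩ := List.mem_map.mp (List.mem_toFinset.mp ha)
    refine ⟨_, ⟨ev_mem_cl ms w, mem_St.mpr fun x hx => ?_⟩, (act_vec w h2).2⟩
    obtain ⟨q, hq, rfl⟩ := List.mem_map.mp hx
    rw [(act_vec w (h4 w hw q hq).1).2, (h4 w hw q hq).2]

theorem card_ms : Nat.card (cl ms) = 174182400 := by
  refine le_antisymm (pres ms (by simp [ms]) ms_rel) (le_trans ?_ (card_low (L := ch1) (by decide +kernel)))
  rw [show (ch1.map (·.2.length)).prod = 174182400 by decide +kernel]
  exact Nat.le_mul_of_pos_right _ Nat.card_pos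

theorem card_cent : Nat.card ↥(cl ms ⊓ Ce (ev ms [0])) ≤ 110592 := by
  have h1 := card_low (L := ch2) (by decide +kernel)
  rw [show (ch2.map (·.2.length)).prod = 9450 by decide +kernel, card_ms, show ch2.map Prod.fst = [2, 1] by decide +kernel]
    at h1
  have h2 := Pres.card_inf_stabilizer_mul (cl ms ⊓ Ce (ev ms [0])) (vec 1)
  have h3 := Pres.card_inf_stabilizer_mul (cl ms ⊓ Ce (ev ms [0]) ⊓ stabilizer _ (vec 1)) (vec 2)
  have k : ∀ g ∈ Ce (ev ms [0]), ∀ x u, u < 256 → act [0] u ^^^ u = x → x ≠ 0 → ∀ v < 256, g • vec x = vec v →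
      0 < v ∧ v < 4 := fun g hg x u hu e x0 v hv h => by
    obtain ⟨n, hn, h5⟩ := vec_surj (g • vec u)
    have hx : x < 256 := e ▸ Nat.xor_lt_two_pow (n := 8) (act_vec _ hu).1 hu
    refine ⟨Nat.pos_of_ne_zero ?_, ?_⟩
    · rintro rfl
      exact x0 (vec_inj hx (by decide) (((smul_eq_zero_iff_eq g).mp (h.trans vec_zero)).trans vec_zero.symm))
    rw [← e, vec_xor, smul_add, ← (act_vec _ hu).2, ← mul_smul, mC.mp hg, mul_smul, ← h5, (act_vec _ hn).2, ← vec_xor] at h
    rw [← vec_inj (Nat.xor_lt_two_pow (n := 8) (act_vec _ hn).1 hn) hv h]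
    exact (by decide +kernel : ∀ n < 256, act [0] n ^^^ n < 4) n hn
  have h4 : {b | ∃ h ∈ cl ms ⊓ Ce (ev ms [0]), h • vec 1 = b}.ncard ≤ 3 :=
    (ncard_le (p := fun v => 0 < v ∧ v < 4) (by
      rintro v hv ⟨g, hg, e⟩
      exact decide_eq_true (k g hg.2 1 32 (by decide) (by decide +kernel) (by decide) v hv e))).trans (by decide +kernel)
  have h5 : {b | ∃ h ∈ cl ms ⊓ Ce (ev ms [0]) ⊓ stabilizer _ (vec 1), h • vec 2 = b}.ncard ≤ 2 :=
    (ncard_le (p := fun v => (0 < v ∧ v < 4) ∧ v ≠ 1) (by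
      rintro v hv ⟨g, hg, e⟩
      exact decide_eq_true ⟨k g hg.1.2 2 16 (by decide) (by decide +kernel) (by decide) v hv e, by
        rintro rfl
        exact absurd (smul_left_cancel g (e.trans hg.2.symm)) (by decide)⟩)).trans (by decide +kernel)
  have h6 : Nat.card ↥(cl ms ⊓ Ce (ev ms [0]) ⊓ stabilizer _ (vec 1) ⊓ stabilizer _ (vec 2)) ≤
      Nat.card ↥(cl ms ⊓ St [2, 1]) := card_le_of_le fun g hg => ⟨hg.1.1.1, ⟨trivial, hg.1.2⟩, hg.2⟩
  rw [← h2, ← h3]
  exact (Nat.mul_le_mul (Nat.mul_le_mul h6 h5) h4).trans (by omega)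

theorem ev_cj {X : Type*} [Group X] [Finite X] {gs : List X} (h : ∀ a, gg gs a * gg gs a = 1) (k x r : List ℕ) :
    ev gs (k.reverse ++ x ++ k ++ r.reverse) = 1 ↔ (ev gs k)⁻¹ * ev gs x * ev gs k = ev gs r := by
  rw [ev_append, ev_append, ev_append, ev_rev fun a _ => h a, ev_rev fun a _ => h a, mul_inv_eq_one]

theorem cl_ms : cl ms = Omega (ZMod 2) (quadFormPlus 4 (ZMod 2)) := by
  refine le_antisymm (cl_le fun x hx => ?_) ((commutator_le ..).mpr fun a _ b _ => ?_)
  · obtain ⟨a, ha, rfl⟩ := List.mem_map.mp hx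
    have h1 := (ev_cj gen_sq _ _ _).mp (one_iff.mp ((by decide +kernel : ∀ a ∈ List.range 16,
      one ((gw.getD a []).reverse.reverse ++ [1, 11, 1, 11] ++ (gw.getD a []).reverse ++ [a].reverse) = true) a ha))
    rw [show ev ms [a] = gen a from (mul_one _).trans (ms_get a)] at h1
    rw [← h1]
    refine (inferInstance : (commutator O).Normal).conj_mem' _ ?_ _
    have := commutator_mem_commutator (mem_top (gg ms 1)) (mem_top (gg ms 11))
    rw [commutatorElement_def, inv_eq_of_mul_eq_one_right (gen_sq 1), inv_eq_of_mul_eq_one_right (gen_sq 11)] at this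
    simp only [ev, ← mul_assoc, mul_one]
    exact this
  · have h1 := (cl ms).card_mul_index
    have h2 := card_O
    have h3 := (cl ms).index_ne_zero_of_finite
    rw [card_ms] at h1
    rcases (by omega : (cl ms).index = 1 ∨ (cl ms).index = 2) with h | h
    · rw [index_eq_one.mp h]; trivial
    · simp only [commutatorElement_def, mul_mem_iff_of_index_two h, inv_mem_iff]
      tauto

end Cfsg.Agent.O8
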