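import Cfsg.Agent.O8.Frame3
import Cfsg.Agent.O8.Model
import Cfsg.Agent.P43.Enum

/-! The subgroup `Ω₈⁺(2)` is the whole group. -/

set_option autoImplicit false
set_option linter.unusedSectionVars false
set_option maxRecDepth 100000
set_option synthInstance.maxSize 4000

namespace Cfsg.Agent.O8

open Subgroup Cfsg.Agent.Local Cfsg.Agent.Mat Cfsg.Agent.M12C

variable {G : Type*} [Group G] [Finite G]

theorem inj_of {M : Type*} [Group M] [Finite M] (F : M →* G) {t w : M} (tt : t * t = 1)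
    (h1 : IsConj t w) (h2 : IsConj t (t * w)) (h : ∀ n, F n = 1 → n * t = t * n → n = 1) : Function.Injective F := by
  have k : ∀ x, IsConj t x → (∀ n ∈ F.ker, n * x = x * n → n = 1) ∧ ∀ n ∈ F.ker, x * n * x⁻¹ = n⁻¹ := fun x hx => by
    obtain ⟨g, rfl⟩ := isConj_iff.mp hx
    have k1 : ∀ n ∈ F.ker, n * (g * t * g⁻¹) = g * t * g⁻¹ * n → n = 1 := fun n hn e =>
      by_contra fun e1 => CIT.inv_conj_ne_one e1 (h _ (F.normal_ker.conj_mem' n hn g) (comm_conj' e))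
    refine ⟨k1, fun n hn => ?_⟩
    obtain ⟨b, -, e⟩ := CIT.exists_conj_of_fpf (by rw [normalizer_eq_top]; trivial) k1 hn
    have k2 := CIT.conj_sq (g := g) tt
    have k3 := CIT.conj_sq (g := b) k2
    rw [inv_eq_of_mul_eq_one_right k2, eq_inv_iff_mul_eq_one, ← mul_left_cancel_iff (a := n),
      ← mul_right_cancel_iff (a := n⁻¹), mul_one, mul_inv_cancel, ← k3, e]
    group
  refine (injective_iff_map_eq_one F).mpr fun n hn => (k _ h2).1 n hn ?_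
  rw [eq_comm, ← mul_inv_eq_iff_eq_mul, mul_inv_rev, show t * w * n * (w⁻¹ * t⁻¹) = t * (w * n * w⁻¹) * t⁻¹ by group,
    (k w h1).2 n hn, (k t (IsConj.refl t)).2 _ (inv_mem hn), inv_inv]

theorem trick {K : Subgroup G} {t b y z : G} (tt : t * t = 1) (tK : t ∈ K)
    (U : ∀ x ∈ K, IsConj t x → ∀ g, g⁻¹ * x * g ∈ K → g ∈ K) (od : ¬ 2 ∣ (Ce t).relIndex K) (kl : Char.Kl y z)
    (yK : y ∈ K) (zK : z ∈ K) (ty : t * y = y * t) (tz : t * z = z * t) (hy : b * y = y * b) (hz : b * z = z * b)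
    (bK : b ∈ K) (tb : IsConj t b) (nc : ∀ x, x * y = y * x → x * b * x⁻¹ ≠ t)
    (h : ∀ u, IsConj t u → u * t = t * u → u * y = y * u → u * z = z * u → u ≠ t →
      ∀ g, g⁻¹ * (t * u) * g ∈ K → g⁻¹ * y * g ∈ K → g⁻¹ * z * g ∈ K → g ∈ K) (g : G)
    (h1 : g⁻¹ * y * g ∈ K) (h2 : g⁻¹ * z * g ∈ K) : g ∈ K := by
  have A : ∀ x, x * y = y * x → x * z = z * x → x ∈ K := fun x xy xz => by
    have bb : x * b * x⁻¹ * (x * b * x⁻¹) = 1 := by
      obtain ⟨c, rfl⟩ := isConj_iff.mp tb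
      exact CIT.conj_sq (CIT.conj_sq tt)
    have cm : ∀ {v}, t * v = v * t → b * v = v * b → x * v = v * x → ∀ m, Commute ((t * (x * b * x⁻¹)) ^ m) v :=
      fun h1 h2 h3 m => (Commute.mul_left h1 (((show Commute _ _ from h3).mul_left h2).mul_left
        (Commute.inv_left h3))).pow_left m
    rcases Nat.even_or_odd (orderOf (t * (x * b * x⁻¹))) with e | e
    · obtain ⟨m, k1, -, k3, k4⟩ := CIT.exists_central_of_even tt bb e
      refine h (t * (t * (x * b * x⁻¹)) ^ m) ?_ (by rw [mul_assoc, k3]) (Commute.mul_left ty (cm ty hy xy m))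
        (Commute.mul_left tz (cm tz hz xz m)) (fun e => k1 (mul_eq_left.mp e)) x ?_
        (by rwa [mul_assoc, ← xy, inv_mul_cancel_left]) (by rwa [mul_assoc, ← xz, inv_mul_cancel_left])
      · rcases Nat.even_or_odd' m with ⟨i, rfl | rfl⟩
        exacts [Block.isConj_mul_pow_even tt bb i,
          (tb.trans (isConj_iff.mpr ⟨x, rfl⟩)).trans (Block.isConj_mul_pow_odd tt bb i)]
      · rw [← mul_assoc t t, tt, one_mul]
        exact U b bK tb _ (by rwa [mul_assoc, ← comm_conj' k4, inv_mul_cancel_left])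
    · obtain ⟨m, -, k2⟩ := CIT.exists_swap_of_odd tt bb e
      refine absurd ?_ (nc (((t * (x * b * x⁻¹)) ^ m * t)⁻¹ * x)
        ((Commute.mul_left (cm ty hy xy m) ty).inv_left.mul_left xy))
      rw [mul_inv_rev _ x, inv_inv, show ∀ c : G, c⁻¹ * x * b * (x⁻¹ * c) = c⁻¹ * (x * b * x⁻¹) * c from fun c => by group]
      nth_rw 2 [← k2]
      group
  have k2 : Char.Kl (⟨_, h1⟩ : K) ⟨_, h2⟩ := by
    have := kl.conj g⁻¹
    rw [inv_inv] at this
    exact ⟨Subtype.ext this.pp, Subtype.ext this.qq, Subtype.ext this.comm⟩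
  obtain ⟨a, ha⟩ := k2.isPGroup.nonempty_fixed_point_of_prime_not_dvd_card (K ⧸ (Ce t).subgroupOf K) od
  obtain ⟨k, rfl⟩ := QuotientGroup.mk_surjective a
  have B : ∀ v (hv : g⁻¹ * v * g ∈ K), (⟨_, hv⟩ : K) ∈ k2.V → g * k * t * (g * k)⁻¹ * v = v * (g * k * t * (g * k)⁻¹) :=
    fun v hv e => by
      have h3 : ((⟨_, hv⟩ * k : K) : K ⧸ (Ce t).subgroupOf K) = k := ha ⟨_, e⟩
      have h4 := comm_conj (g := g * k) (mC.mp (mem_subgroupOf.mp (QuotientGroup.eq.mp h3.symm)))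
      simp only [coe_mul, coe_inv] at h4
      rw [show g * k * ((k : G)⁻¹ * (g⁻¹ * v * g * k)) * (g * k)⁻¹ = v by group] at h4
      exact h4.symm
  have tc : IsConj t (g * k * t * (g * k)⁻¹) := isConj_iff.mpr ⟨_, rfl⟩
  refine U _ (A _ (B y h1 (.inr (.inl rfl))) (B z h2 (.inr (.inr (.inl rfl))))) tc g ?_
  rw [show g⁻¹ * (g * k * t * (g * k)⁻¹) * g = k * t * (k : G)⁻¹ by group]
  exact mul_mem (mul_mem k.2 tK) (inv_mem k.2)

/-- Decoding a word. -/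
def dk (n : ℕ) : List ℕ := (List.range (n % 16)).map fun i => n / 16 ^ (i + 2) % 16

/-- Decoding an index. -/
def dj (n : ℕ) : ℕ := n / 16 % 16

/-- Equal elements. -/
def eqw (a b : List ℕ) : Bool := one (a ++ b.reverse)

/-- Commuting elements. -/
def cmw (a b : List ℕ) : Bool := eqw (a ++ b) (b ++ a)

/-- Conjugate elements. -/
def cjw (k x r : List ℕ) : Bool := one (k.reverse ++ x ++ k ++ r.reverse)

/-- Representatives of the classes of involutions. -/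
def rp (j : ℕ) : List ℕ := [[0], [3, 4], [2, 4], [2, 3], [2, 3, 4]].getD j []

/-- Second members of the four-groups. -/
def zw (i : ℕ) : List ℕ := [[1, 4, 5], [1, 4, 6], [1, 3, 7]].getD i []

/-- Root elements. -/
def bw' (i : ℕ) : List ℕ := [[3], [2], [2], [2]].getD i []

theorem chk1 : all2 (fun u n => !one (u ++ u) || one u ||
    (decide (dj n < 5) && cjw (dk n) u (rp (dj n)) && (dj n != 0 || decide (u ∈ TL)))) US CS = true := by decide +kernel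

theorem chk2 : all2 (fun u h => [0, 1, 2].all fun i => decide (h.getD i 0 < TL.length) &&
      eqw ([8 + i, 13 + i] ++ u ++ [8 + i, 13 + i].reverse) (TL.getD (h.getD i 0) [])) TL TH = true := by decide +kernel

theorem chk3 : all2 (fun u h => (!cmw u (rp 4) || eqw u [0] || cjw (dk (h.getD 3 0)) (0 :: u) [0]) &&
    [0, 1, 2].all fun i => (!cmw u (rp (i + 1)) || eqw u [0] || ((!cmw u (zw i) || cjw (dk (h.getD (4 + 2 * i) 0))
      (0 :: u ++ [[], rp (i + 1), zw i, rp (i + 1) ++ zw i].getD (dj (h.getD (4 + 2 * i) 0)) []) [0]) &&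
      (cjw (dk (h.getD (5 + 2 * i) 0)) (0 :: u) [0] || cjw (dk (h.getD (5 + 2 * i) 0)) (0 :: u ++ rp (i + 1)) [0] ||
        cjw (dk (h.getD (5 + 2 * i) 0)) (rp (i + 1)) (rp (i + 1)) && cjw (dk (h.getD (5 + 2 * i) 0)) (0 :: u) (zw i)))))
    TL TH = true := by decide +kernel

theorem chk4 : ∀ j < 4, (∀ a ∈ rp (j + 1), a ∈ bs) ∧ eqw (rp (j + 1)) [0] = false ∧ ∃ i : Fin 3, ∀ a < 3, ∀ b < 3, ∀ c < 3,
    ∀ v ∈ [[], [0]], eqw (xw ![a, b, c] ++ [8 + i.1] ++ (xw ![a, b, c]).reverse ++ rp (j + 1))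
      (rp (j + 1) ++ v ++ xw ![a, b, c] ++ [8 + i.1] ++ (xw ![a, b, c]).reverse) = false := by decide +kernel

variable {t : G} {gs : List G}

theorem Out.hom (P : Out t gs) : ∃ F : cl ms →* G, Function.Injective F ∧ F.range = cl gs ∧
    ∀ w, one w = true ↔ ev gs w = 1 := by
  obtain ⟨F, hF⟩ := exists_hom_words (ms := ms) (by simp [ms, P.len]) (fun l hl h => pres l (hl.trans P.len) h)
    card_ms.ge ms_rel P.rel
  have cj : ∀ k x, cjw k x [0] = true → IsConj (el ms [0]) (el ms x) := fun k x h =>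
    (isConj_iff.mpr ⟨(el ms k)⁻¹, Subtype.ext (by simpa [el] using (ev_cj gen_sq k x [0]).mp (one_iff.mp h))⟩).symm
  have h1 : Ce t ≤ (Ce (el ms [0])).map F := P.gen _ fun a ha h => ⟨el ms [a], mC.mpr (Subtype.ext (by
    have := (ev_cj gen_sq [a] [0] [0]).mp (one_iff.mp ((by decide +kernel : ∀ a < 16, a ≠ 12 →
      cjw [a] [0] [0] = true) a ha h))
    exact (inv_mul_eq_iff_eq_mul.mp ((mul_assoc ..).symm.trans this)).symm)), (hF _).trans (mul_one _)⟩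
  have h2 := ((F.subgroupMap_surjective (Ce (el ms [0]))).bijective_of_nat_card_le (le_trans (le_trans
    ((card_subtype _ _).ge.trans (card_le_of_le fun _ ⟨x, hx, e⟩ =>
      e ▸ ⟨x.2, mC.mpr (congrArg Subtype.val (mC.mp hx))⟩)) card_cent) (P.card ▸ card_le_of_le h1))).1
  have h3 := inj_of F (t := el ms [0]) (w := el ms [1]) (Subtype.ext (by simpa [el, ev] using gen_sq 0))
    (cj [12] _ (by decide +kernel)) (by
      have := cj [11, 12] [0, 1] (by decide +kernel)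
      rwa [show el ms [0, 1] = el ms [0] * el ms [1] from Subtype.ext (ev_append ms [0] [1])] at this)
    fun n hn e => congrArg Subtype.val (h2 (a₁ := ⟨n, mC.mpr e⟩) (a₂ := 1) (Subtype.ext (hn.trans (map_one F).symm)))
  exact ⟨F, h3, range_eq_cl hF, fun w => by
    rw [one_iff, ← hF, ← map_one F, h3.eq_iff]
    exact ⟨fun e => Subtype.ext e, fun e => congrArg Subtype.val e⟩⟩

theorem Out.sq (P : Out t gs) (a : ℕ) : gg gs a * gg gs a = 1 := by
  obtain ⟨-, -, -, h⟩ := P.hom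
  simpa [ev] using (h [a, a]).mp (one_iff.mpr (by simpa [ev] using gen_sq a))

theorem Out.one (P : Out t gs) {w : List ℕ} : one w = true ↔ ev gs w = 1 := P.hom.choose_spec.2.2 w

theorem Out.eq (P : Out t gs) {a b : List ℕ} : eqw a b = true ↔ ev gs a = ev gs b := by
  rw [eqw, P.one, ev_append, ev_rev fun a _ => P.sq a, mul_inv_eq_one]

theorem Out.cm (P : Out t gs) {a b : List ℕ} : cmw a b = true ↔ ev gs a * ev gs b = ev gs b * ev gs a := by
  rw [cmw, P.eq, ev_append, ev_append]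

theorem Out.cj (P : Out t gs) {k x r : List ℕ} (h : cjw k x r = true) : (ev gs k)⁻¹ * ev gs x * ev gs k = ev gs r :=
  (ev_cj P.sq k x r).mp (P.one.mp h)

theorem Out.e0 (P : Out t gs) : ev gs [0] = t := (mul_one _).trans P.g0

theorem Out.ec (P : Out t gs) (u : List ℕ) : ev gs (0 :: u) = t * ev gs u := P.g0 ▸ rfl

theorem Out.tt (P : Out t gs) : t * t = 1 := P.g0 ▸ P.sq 0

theorem Out.cj0 (P : Out t gs) {k x : List ℕ} (h : cjw k x [0] = true) : IsConj t (ev gs x) :=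
  (isConj_iff.mpr ⟨(ev gs k)⁻¹, by rw [inv_inv, P.cj h, P.e0]⟩).symm

theorem Out.le (P : Out t gs) : Ce t ≤ cl gs := P.gen _ fun a _ _ => by simpa [ev] using ev_mem_cl gs [a]

theorem Out.odd (P : Out t gs) : ¬ 2 ∣ (Ce t).relIndex (cl gs) := by
  obtain ⟨F, h1, h2, -⟩ := P.hom
  have h3 := ((Ce t).subgroupOf (cl gs)).card_mul_index
  rw [Nat.card_congr (subgroupOfEquivOfLe P.le).toEquiv, P.card, ← h2, ← Nat.card_congr (F.ofInjective h1).toEquiv,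
    card_ms, h2] at h3
  rw [relIndex]
  omega

theorem Out.nc (P : Out t gs) {j : ℕ} (hj : j < 4) : ¬ IsConj t (ev gs (rp (j + 1))) := fun h => by
  obtain ⟨h1, h2, i, h3⟩ := chk4 j hj
  rcases P.nT _ h1 h with e | e
  · exact Bool.eq_false_iff.mp h2 (P.eq.mpr (e.trans P.e0.symm))
  · obtain ⟨k, hk, v, hv, e⟩ := e i
    exact Bool.eq_false_iff.mp (h3 _ (hk 0) _ (hk 1) _ (hk 2) v hv) (P.eq.mpr e)

theorem Out.cls (P : Out t gs) {u : List ℕ} (hu : u ∈ US) (h : ev gs u * ev gs u = 1) (h1 : ev gs u ≠ 1) :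
    ∃ j < 5, ∃ k ∈ cl gs, k⁻¹ * ev gs u * k = ev gs (rp j) ∧ (j = 0 → u ∈ TL) := by
  obtain ⟨n, hn⟩ := all2_spec chk1 u hu
  rw [P.one.mpr ((ev_append ..).trans h), Bool.eq_false_iff.mpr fun e => h1 (P.one.mp e)] at hn
  simp only [Bool.not_true, Bool.or_self, Bool.false_or, Bool.and_eq_true, decide_eq_true_eq, Bool.or_eq_true,
    bne_iff_ne] at hn
  exact ⟨_, hn.1.1, _, ev_mem_cl gs _, P.cj hn.1.2, fun e => hn.2.resolve_left fun e' => e' e⟩

theorem Out.clsK (P : Out t gs) {z : G} (hz : z ∈ cl gs) (h : z * z = 1) (h1 : z ≠ 1) :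
    ∃ j < 5, ∃ k ∈ cl gs, k⁻¹ * z * k = ev gs (rp j) := by
  obtain ⟨g, hg, e⟩ := exists_conj_mem_of_odd P.odd hz h
  have h2 : g⁻¹ * z * g * (g⁻¹ * z * g) = 1 := by simpa using CIT.conj_sq (g := g⁻¹) h
  obtain ⟨k, u, hu, e⟩ := P.inv _ e h2
  have h3 : ev gs u = (g * ev gs (xw k))⁻¹ * z * (g * ev gs (xw k)) := by
    rw [mul_inv_rev, mul_assoc _ g⁻¹, ← mul_assoc _ g, mul_assoc _ _ g, e]; group
  obtain ⟨j, hj, c, hc, e, -⟩ := P.cls hu (by simpa [h3] using CIT.conj_sq (g := (g * ev gs (xw k))⁻¹) h)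
    (h3 ▸ CIT.inv_conj_ne_one h1)
  exact ⟨j, hj, g * ev gs (xw k) * c, mul_mem (mul_mem hg (ev_mem_cl gs _)) hc, by rw [← e, h3]; group⟩

theorem Out.sq' (P : Out t gs) {z : G} (h : IsConj t z) : z * z = 1 ∧ z ≠ 1 := by
  obtain ⟨g, rfl⟩ := isConj_iff.mp h
  exact ⟨CIT.conj_sq P.tt, by simpa using P.t1⟩

theorem Out.zero (P : Out t gs) {z k : G} {j : ℕ} (hj : j < 5) (h : IsConj t z) (e : k⁻¹ * z * k = ev gs (rp j)) :
    j = 0 := by
  rcases j with _ | j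
  exacts [rfl, absurd (h.trans (isConj_iff.mpr ⟨k⁻¹, by rw [inv_inv, e]⟩)) (P.nc (by omega))]

theorem Out.U (P : Out t gs) : ∀ x ∈ cl gs, IsConj t x → ∀ g, g⁻¹ * x * g ∈ cl gs → g ∈ cl gs := fun x hx h g hg => by
  have h' := h.trans (isConj_iff.mpr ⟨g⁻¹, (by rw [inv_inv] : _ = g⁻¹ * x * g)⟩)
  obtain ⟨j, hj, a, ha, e⟩ := P.clsK hx (P.sq' h).1 (P.sq' h).2
  obtain ⟨i, hi, b, hb, e'⟩ := P.clsK hg (P.sq' h').1 (P.sq' h').2
  obtain rfl := P.zero hj h e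
  obtain rfl := P.zero hi h' e'
  have : a⁻¹ * g * b ∈ cl gs := P.le (mC.mpr (by
    nth_rw 1 [← P.e0, ← show _ = ev gs [0] from e']
    rw [← P.e0, ← show _ = ev gs [0] from e]
    group))
  simpa only [mul_mem_cancel_left (inv_mem ha), mul_mem_cancel_right hb] using this

theorem Out.TC (P : Out t gs) {z : G} (h : IsConj t z) (hz : z * t = t * z) : ∃ u ∈ TL, z = ev gs u := by
  obtain ⟨k, u, hu, rfl⟩ := P.inv z (mC.mpr hz) (P.sq' h).1
  have h' := h.trans (isConj_iff.mpr ⟨ev gs (xw k), rfl⟩).symm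
  obtain ⟨j, hj, c, -, e, h0⟩ := P.cls hu (P.sq' h').1 (P.sq' h').2
  have A : ∀ i ∈ [0, 1, 2], ∀ n z, (∃ u ∈ TL, z = ev gs u) → ∃ u ∈ TL,
      ev gs [8 + i, 13 + i] ^ n * z * (ev gs [8 + i, 13 + i] ^ n)⁻¹ = ev gs u := fun i hi n z hz => by
    induction n with
    | zero => simpa using hz
    | succ n ih =>
      obtain ⟨u, hu, e⟩ := ih
      obtain ⟨h, hh⟩ := all2_spec chk2 u hu
      have := List.all_eq_true.mp hh i hi
      rw [Bool.and_eq_true, decide_eq_true_eq, P.eq, ev_append, ev_append, ev_rev fun a _ => P.sq a,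
        List.getD_eq_getElem _ _ this.1] at this
      exact ⟨_, List.getElem_mem _, by rw [← this.2, ← e, pow_succ']; group⟩
  obtain ⟨v, hv, e⟩ := A 0 (by decide) (k 0) _ (A 1 (by decide) (k 1) _ (A 2 (by decide) (k 2) _
    ⟨u, h0 (P.zero hj h' e), rfl⟩))
  exact ⟨v, hv, by rw [← e, xw, ev_append, ev_append, ev_flat, ev_flat, ev_flat]; group⟩

theorem Out.T (P : Out t gs) {u : G} (h : IsConj t u) (ut : u * t = t * u) (ne : u ≠ t) :
    (u * ev gs (rp 4) = ev gs (rp 4) * u → IsConj t (t * u)) ∧ ∀ i < 3, u * ev gs (rp (i + 1)) = ev gs (rp (i + 1)) * u →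
      (u * ev gs (zw i) = ev gs (zw i) * u → ∀ H : Subgroup G, t * u ∈ H → ev gs (rp (i + 1)) ∈ H → ev gs (zw i) ∈ H →
        ∃ x ∈ H ⊓ cl gs, IsConj t x) ∧ (IsConj t (t * u) ∨ IsConj t (t * u * ev gs (rp (i + 1))) ∨
        ∃ k ∈ cl gs, k⁻¹ * ev gs (rp (i + 1)) * k = ev gs (rp (i + 1)) ∧ k⁻¹ * (t * u) * k = ev gs (zw i)) := by
  obtain ⟨u, hu, rfl⟩ := P.TC h ut
  obtain ⟨h, hh⟩ := all2_spec chk3 u hu
  rw [Bool.eq_false_iff.mpr fun e => ne ((P.eq.mp e).trans P.e0), Bool.and_eq_true, List.all_eq_true] at hh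
  refine ⟨fun e => ?_, fun i hi e => ?_⟩
  · rw [P.cm.mpr e] at hh
    exact P.ec u ▸ P.cj0 hh.1
  have h1 := hh.2 i ((by decide : ∀ i < 3, i ∈ [0, 1, 2]) i hi)
  rw [P.cm.mpr e, Bool.not_true, Bool.false_or, Bool.false_or, Bool.and_eq_true] at h1
  refine ⟨fun e H k1 k2 k3 => ?_, ?_⟩
  · rw [P.cm.mpr e] at h1
    refine ⟨_, ⟨?_, ev_mem_cl gs _⟩, P.cj0 h1.1⟩
    rw [ev_append, P.ec]
    refine mul_mem k1 ?_
    rcases dj _ with _ | _ | _ | _ | _
    exacts [one_mem H, k2, k3, (ev_append gs _ _).symm ▸ mul_mem k2 k3, one_mem H]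
  · simp only [Bool.or_eq_true, Bool.and_eq_true] at h1
    rcases h1.2 with (e | e) | e
    exacts [.inl (P.ec u ▸ P.cj0 e), .inr (.inl (by simpa only [ev_append, P.ec] using P.cj0 e)),
      .inr (.inr ⟨_, ev_mem_cl gs _, P.cj e.1, P.ec u ▸ P.cj e.2⟩)]

theorem chk5 : (∀ a ∈ [2, 3, 4], cjw (gw.getD a []) [a] [0] = true) ∧ (∀ j < 4, cmw [0] (rp (j + 1)) = true ∧
    one (rp (j + 1) ++ rp (j + 1)) = true ∧ cmw (bw' j) (rp (j + 1)) = true ∧ ∃ a ∈ [2, 3, 4], bw' j = [a]) ∧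
    (∀ i < 3, one (zw i ++ zw i) = true ∧ cmw (rp (i + 1)) (zw i) = true ∧ cmw [0] (zw i) = true ∧
      cmw (bw' i) (zw i) = true ∧ (∃ a ∈ [2, 3, 4], eqw (bw' i ++ rp (i + 1)) [a] = true) ∧
      ∃ a ∈ [5, 6], cjw [a] (0 :: rp (i + 1)) (rp (i + 1)) = true) ∧
    cmw [3] [2] = true ∧ cmw [3] (rp 4) = true ∧ eqw [3] [2] = false := by decide +kernel

theorem Out.UU (P : Out t gs) {j : ℕ} (hj : j < 5) (g : G) (hg : g⁻¹ * ev gs (rp j) * g ∈ cl gs) : g ∈ cl gs := by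
  have tK : t ∈ cl gs := P.le (mC.mpr rfl)
  obtain ⟨c1, c2, c3, c4, c5, c6⟩ := chk5
  have o1 : ∀ x : G, x * 1 = 1 * x := fun x => by rw [mul_one, one_mul]
  have uK : ∀ {u}, u * t = t * u → t * u ∈ cl gs := fun h => mul_mem tK (P.le (mC.mpr h))
  have tr : ∀ j < 4, ∀ z ∈ cl gs, z * z = 1 → ev gs (rp (j + 1)) * z = z * ev gs (rp (j + 1)) → t * z = z * t →
      ev gs (bw' j) * z = z * ev gs (bw' j) → _ → _ → ∀ g, _ → _ → g ∈ cl gs := fun j hj z zK zz yz tz bz => by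
    obtain ⟨d1, d2, d3, a, ha, d4⟩ := c2 j hj
    exact trick P.tt tK P.U P.odd ⟨(ev_append ..).symm.trans (P.one.mp d2), zz, yz⟩ (ev_mem_cl gs _) zK
      (P.e0 ▸ P.cm.mp d1) tz (P.cm.mp d3) bz (ev_mem_cl gs _) (d4 ▸ P.cj0 (c1 a ha))
  rcases j with _ | i
  · exact P.U _ (ev_mem_cl gs _) (P.e0 ▸ IsConj.refl _) g hg
  rcases (by omega : i = 3 ∨ i < 3) with rfl | hi
  · refine tr 3 (by decide) 1 (one_mem _) (one_mul 1) (o1 _) (o1 _) (o1 _) (fun x hx e => P.nc (j := 2) (by decide) ?_)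
      (fun u h1 h2 h3 _ h4 g h5 _ _ => P.U _ (uK h2) ((P.T h1 h2 h4).1 h3) g h5) g hg (by simp)
    have := (P.T ((P.cj0 (c1 3 (by decide))).trans (isConj_iff.mpr ⟨x, rfl⟩)) (e ▸ comm_conj (P.cm.mp c4))
      (fun e' => Bool.eq_false_iff.mp c6 (P.eq.mpr (by simpa [bw'] using e'.trans e.symm)))).1
      (((show Commute _ _ from hx).mul_left (P.cm.mp c5)).mul_left (Commute.inv_left hx))
    rw [show ∀ v, t * v = x * ev gs [2] * x⁻¹ * v from fun v => e ▸ rfl, conj_mul, ← ev_append] at this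
    exact this.trans (isConj_iff.mpr ⟨x, rfl⟩).symm
  obtain ⟨d1, d2, d3, d4, ⟨a, ha, d5⟩, c, -, d6⟩ := c3 i hi
  have nc : ∀ x, x * ev gs (rp (i + 1)) = ev gs (rp (i + 1)) * x → x * ev gs (bw' i) * x⁻¹ ≠ t := fun x hx e => by
    refine P.nc (j := i) (by omega) (((P.cj0 (c1 a ha)).trans (isConj_iff.mpr ⟨x, ?_⟩)).trans
      (isConj_iff.mpr ⟨(ev gs [c])⁻¹, by rw [inv_inv, P.cj d6]⟩))
    rw [← P.eq.mp d5, ev_append, ← conj_mul, e, P.ec, hx, mul_inv_cancel_right]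
  have mH : ∀ {g x : G}, x ∈ (cl gs).comap (MulAut.conj g⁻¹).toMonoidHom ↔ g⁻¹ * x * g ∈ cl gs := by simp
  have A := tr i (by omega) _ (ev_mem_cl gs _) ((ev_append ..).symm.trans (P.one.mp d1)) (P.cm.mp d2)
    (P.e0 ▸ P.cm.mp d3) (P.cm.mp d4) nc fun u h1 h2 h3 h4 h5 g k1 k2 k3 => by
      obtain ⟨x, hx, e⟩ := ((P.T h1 h2 h5).2 i hi h3).1 h4 _ (mH.mpr k1) (mH.mpr k2) (mH.mpr k3)
      exact P.U x hx.2 e g (mH.mp hx.1)
  refine tr i (by omega) 1 (one_mem _) (one_mul 1) (o1 _) (o1 _) (o1 _) nc (fun u h1 h2 h3 _ h5 g k1 k2 _ => ?_) g hg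
    (by simp)
  rcases ((P.T h1 h2 h5).2 i hi h3).2 with e | e | ⟨k, hk, e1, e2⟩
  · exact P.U _ (uK h2) e g k1
  · exact P.U _ (mul_mem (uK h2) (ev_mem_cl gs _)) e g (mH.mp (mul_mem (mH.mpr k1) (mH.mpr k2)))
  · refine (mul_mem_cancel_left (inv_mem hk)).mp (A (k⁻¹ * g) ?_ ?_)
    · rw [← e1]; simpa [mul_assoc] using k2
    · rw [← e2]; simpa [mul_assoc] using k1

theorem Out.top (P : Out t gs) : cl gs = ⊤ := eq_top_iff.mpr fun g _ => by
  have h := (ev_append ..).symm.trans (P.one.mp (chk5.2.1 0 (by decide)).2.1)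
  obtain ⟨v, v1, vv, h1, h2⟩ := exists_comm_inv (CIT.conj_sq (g := g⁻¹) h) P.tt fun e =>
    P.nc (j := 0) (by decide) (e.trans (isConj_iff.mpr ⟨g⁻¹, rfl⟩).symm)
  have vK := P.le (mC.mpr h2)
  obtain ⟨j, hj, k, hk, e⟩ := P.clsK vK vv v1
  rw [inv_inv] at h1
  refine P.UU (j := 1) (by decide) g ((mul_mem_cancel_left (inv_mem hk)).mp (P.UU hj _ ?_))
  rwa [← e, show ∀ x : G, (k⁻¹ * x)⁻¹ * (k⁻¹ * v * k) * (k⁻¹ * x) = x⁻¹ * (v * x) from fun x => by group, h1,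
    inv_mul_cancel_left]

theorem Out.iso (P : Out t gs) : Nonempty (G ≃* Omega (ZMod 2) (quadFormPlus 4 (ZMod 2))) := by
  obtain ⟨F, h1, h2, -⟩ := P.hom
  exact ⟨(MulEquiv.ofBijective F ⟨h1, MonoidHom.range_eq_top.mp (h2.trans P.top)⟩).symm.trans
    (MulEquiv.subgroupCongr cl_ms)⟩

end Cfsg.Agent.O8
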