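import Cfsg.Agent.O8.WC

/-! A conjugate inside the extraspecial group; the action of the Sylow 3-subgroup. -/

set_option autoImplicit false
set_option linter.unusedSectionVars false

namespace Cfsg.Agent.O8

open Subgroup Cfsg.Agent.Local Equiv
open scoped Pointwise

variable {G : Type*} [Group G] [Finite G] {t w : G} {Q Q' E : Subgroup G} {φ φ' : G → Fin 3 → S3} {e : Fin 3 → G}

theorem Hyp.card_C (H : Hyp t Q φ) : Nat.card (Ce t) = 110592 := by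
  have h1 : H.π.ker = Q.subgroupOf _ := Subgroup.ext fun x => H.ker x x.2
  have h2 : H.π.range = ⊤ := MonoidHom.range_eq_top.mpr fun σ => by
    obtain ⟨x, hx, e⟩ := H.surj σ
    exact ⟨⟨x, hx⟩, e⟩
  rw [card_eq_card_quotient_mul_card_subgroup H.π.ker, Nat.card_congr (QuotientGroup.quotientKerEquivRange _).toEquiv,
    h1, h2, Nat.card_congr (subgroupOfEquivOfLe H.le).toEquiv, H.card, card_top]
  rw [Nat.card_fun, Nat.card_perm, Nat.card_fin]
  rfl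

theorem Hyp.idx (H : Hyp t Q φ) {q : G} (hq : q ∈ Q) : 256 ≤ Nat.card ↥(Q ⊓ Ce q) := by
  have := H.dbl le_rfl hq
  rw [H.card] at this
  omega

theorem Hyp.md (H : Hyp t Q φ) {p q : G} (hp : p ∈ Q) (x : G) (h : q = p ∨ q = p * t) (hx : x ∈ Q) :
    x * q = q * x ↔ x * p = p * x := by
  rcases h with rfl | rfl
  · rfl
  · rw [mul_assoc, ← mC.mp (H.le hx), ← mul_assoc, ← mul_assoc, mul_left_inj]

/-- A conjugate in the extraspecial group. -/
structure Mp (t w : G) (Q Q' : Subgroup G) (φ φ' : G → Fin 3 → S3) : Prop where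
  H : Hyp t Q φ
  H' : Hyp w Q' φ'
  wQ : w ∈ Q
  ne : w ≠ t

namespace Mp

theorem tQ (M : Mp t w Q Q' φ φ') : t ∈ Q' := by
  by_contra h
  have h1 := M.H.ab_le (A := Q ⊓ Ce w) inf_le_left fun a ha b hb =>
    (M.H.cm a ha.1 b hb.1).resolve_right fun e => h (by
      convert M.H'.cm_mem inf_le_right (fun x hx => M.H.pow4 hx.1) (inv_mem ha) (inv_mem hb) using 1
      rw [inv_inv, inv_inv, mul_assoc, e]; group)
  have := M.H.idx M.wQ
  omega

theorem symm (M : Mp t w Q Q' φ φ') : Mp w t Q' Q φ' φ := ⟨M.H', M.H, M.tQ, M.ne.symm⟩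

theorem ab (M : Mp t w Q Q' φ φ') {a b : G} (ha : a ∈ Q) (ha' : a ∈ Q') (hb : b ∈ Q) (hb' : b ∈ Q') : a * b = b * a :=
  (M.H.cm a ha b hb).elim id fun e => (M.H'.cm a ha' b hb').resolve_right fun e' => M.ne (mul_left_cancel (e'.symm.trans e))

theorem sq (M : Mp t w Q Q' φ φ') {a : G} (ha : a ∈ Q) (ha' : a ∈ Q') : a * a = 1 :=
  (M.H.sq a ha).elim id fun e => (M.H'.sq a ha').resolve_right fun e' => M.ne (e'.symm.trans e)

theorem sgn (M : Mp t w Q Q' φ φ') : (∀ s : Fin 3 → ℤˣ, ∃ b ∈ Q' ⊓ Ce t, ∀ i, Perm.sign (φ b i) = s i) ∧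
    ∀ b ∈ Q', b ∉ Q → ∃ d ∈ Q, d ∈ Q' ∧ b * d * b⁻¹ = d * w := by
  have h1 := M.H.eight (R := Q' ⊓ Ce t) inf_le_right fun x hx => M.H'.pow4 hx.1
  have ab : ∀ a ∈ Q' ⊓ Ce t ⊓ Q, ∀ b ∈ Q' ⊓ Ce t ⊓ Q, a * b = b * a := fun a ha b hb => M.ab ha.2 ha.1.1 hb.2 hb.1.1
  have h2 := M.H.ab_le inf_le_right ab
  have h3 := M.H'.idx M.tQ
  refine ⟨h1.2 (by omega), fun b hb hQ => ?_⟩
  by_contra! h
  refine hQ (M.H'.ab_max (inf_le_left.trans inf_le_left) ab (by omega) hb fun a ha => ?_).2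
  exact (mul_inv_eq_iff_eq_mul.mp ((M.H'.cj hb ha.1.1).resolve_right (h a ha.2 ha.1.1))).symm

theorem one (M : Mp t w Q Q' φ φ') (i : Fin 3) :
    ∃ b ∈ Q' ⊓ Ce t, Perm.sign (φ b i) = -1 ∧ ∀ j, j ≠ i → φ b j = 1 := by
  obtain ⟨b, hb, h⟩ := M.sgn.1 (Pi.mulSingle i (-1))
  exact ⟨b, hb, by rw [h, Pi.mulSingle_eq_same], fun j hj => (by decide : ∀ σ : S3, σ * σ = 1 → Perm.sign σ = 1 → σ = 1) _
    (M.H.two inf_le_right (fun x hx => M.H'.pow4 hx.1) hb j) (by rw [h, Pi.mulSingle_eq_of_ne hj])⟩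

theorem beta0 (M : Mp t w Q Q' φ φ') {b y : G} (hb : b ∈ Q') (hQ : b ∉ Q) (hy : y ∈ Q)
    (h : b * y * b⁻¹ = y ∨ b * y * b⁻¹ = y * t) : y * w = w * y := by
  obtain ⟨d, d1, d2, h1⟩ := M.sgn.2 b hb hQ
  have := M.H.cm_mul hy d1 (mul_mem d1 M.wQ) (by
    rw [eq_comm (a := y * (d * w)), ← M.H.md hy _ h (mul_mem d1 M.wQ), ← h1, conj_mul, conj_mul, mul_left_inj,
      mul_right_inj, eq_comm])
  rwa [← mul_assoc d, M.sq d1 d2, one_mul] at this

end Mp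

/-- A Sylow 3-subgroup with a basis. -/
structure Ef (t : G) (φ : G → Fin 3 → S3) (E : Subgroup G) (e : Fin 3 → G) : Prop where
  syl : IsSylowIn 3 E (Ce t)
  mem : ∀ i, e i ∈ E
  φe : ∀ i j, φ (e i) j = 1 ↔ j ≠ i

theorem Hyp.exists_ef (H : Hyp t Q φ) : ∃ E e, Ef t φ E e := by
  have : Fact (Nat.Prime 3) := ⟨Nat.prime_three⟩
  obtain ⟨E, hE⟩ := exists_isSylowIn 3 (Ce t)
  have : ∀ i, ∃ x ∈ E, ∀ j, φ x j = 1 ↔ j ≠ i := fun i => by
    obtain ⟨x, hx, e⟩ := H.surj (Pi.mulSingle i (finRotate 3))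
    have h1 : (x ^ 4) ^ 3 = 1 := by
      rw [← pow_mul, mul_comm, pow_mul]
      refine H.pow4 ((H.ker _ (pow_mem hx 3)).mp ?_)
      rw [H.φ_pow hx, e, ← Pi.mulSingle_pow, show finRotate 3 ^ 3 = 1 by decide, Pi.mulSingle_one]
    obtain ⟨n, hn, h2⟩ := hE.exists_le_conj (Q := zpowers (x ^ 4))
      (IsPGroup.iff_orderOf.mpr fun y => (Nat.dvd_prime_pow Nat.prime_three).mp (show orderOf y ∣ 3 ^ 1 from
        (orderOf_dvd_natCard y).trans (by rw [Nat.card_zpowers]; exact orderOf_dvd_of_pow_eq_one h1)) |>.imp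
          fun _ h => h.2) (zpowers_le_of_mem (pow_mem hx 4))
    refine ⟨_, mem_pointwise_smul_iff_inv_smul_mem.mp (h2 (mem_zpowers _)), fun j => ?_⟩
    rw [← map_inv, MulAut.smul_def, MulAut.conj_apply]
    simp (maxDischargeDepth := 9) only [H.φ_mul, H.φ_inv, H.φ_pow, mul_mem, inv_mem, pow_mem, hx, hn, e, Pi.mul_apply,
      Pi.inv_apply, Pi.pow_apply, conj_eq_one_iff]
    by_cases k : j = i
    · rw [k, Pi.mulSingle_eq_same]; simp only [ne_eq, not_true, iff_false]; decide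
    · simp [k]
  choose e h1 h2 using this
  exact ⟨E, e, hE, h1, h2⟩

/-- A monomial in the basis. -/
def ex (e : Fin 3 → G) (k : Fin 3 → ℕ) : G := e 0 ^ k 0 * e 1 ^ k 1 * e 2 ^ k 2

theorem ex_mem {K : Subgroup G} (h : ∀ i, e i ∈ K) (k : Fin 3 → ℕ) : ex e k ∈ K :=
  mul_mem (mul_mem (pow_mem (h 0) _) (pow_mem (h 1) _)) (pow_mem (h 2) _)

theorem Hyp.φ_ex (H : Hyp t Q φ) (h : ∀ i, e i ∈ Ce t) (h' : ∀ i j, j ≠ i → φ (e i) j = 1) (k : Fin 3 → ℕ) (j : Fin 3) :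
    φ (ex e k) j = φ (e j) j ^ k j := by
  simp (maxDischargeDepth := 9) only [ex, H.φ_mul, H.φ_pow, mul_mem, pow_mem, h, Pi.mul_apply, Pi.pow_apply]
  fin_cases j <;> simp [h']

namespace Ef

theorem C (F : Ef t φ E e) (i : Fin 3) : e i ∈ Ce t := F.syl.le (F.mem i)

theorem card (F : Ef t φ E e) (H : Hyp t Q φ) : Nat.card E = 27 := by
  have : Fact (Nat.Prime 3) := ⟨Nat.prime_three⟩
  rw [F.syl.card_eq, H.card_C, show 110592 = 3 ^ 3 * 4096 from rfl, Nat.factorization_mul_apply_of_coprime (by decide),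
    Nat.factorization_eq_zero_of_not_dvd (n := 4096) (by decide), Nat.prime_three.factorization_pow]
  simp

theorem inj (F : Ef t φ E e) (H : Hyp t Q φ) {x y : G} (hx : x ∈ E) (hy : y ∈ E) (h : φ x = φ y) : x = y :=
  mul_inv_eq_one.mp (eq_one_of_mem_of_coprime (by rw [F.card H, H.card]; decide) (mul_mem hx (inv_mem hy))
    (H.mem_of_eq (F.syl.le hx) (F.syl.le hy) h))

theorem φ3 (F : Ef t φ E e) (H : Hyp t Q φ) {x : G} (hx : x ∈ E) (j : Fin 3) : φ x j ^ 3 = 1 :=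
  (by decide +kernel : ∀ σ : S3, σ ^ 27 = 1 → σ ^ 3 = 1) _ (by
    rw [← Pi.pow_apply, ← H.φ_pow (F.syl.le hx), ← F.card H,
      orderOf_dvd_iff_pow_eq_one.mp (orderOf_dvd_card_of_mem hx), H.φ_one]; rfl)

theorem cube (F : Ef t φ E e) (H : Hyp t Q φ) {x : G} (hx : x ∈ E) : x ^ 3 = 1 :=
  F.inj H (pow_mem hx 3) (one_mem E) (by rw [H.φ_pow (F.syl.le hx), H.φ_one]; exact funext (F.φ3 H hx))

theorem cm (F : Ef t φ E e) (H : Hyp t Q φ) {x y : G} (hx : x ∈ E) (hy : y ∈ E) : x * y = y * x :=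
  F.inj H (mul_mem hx hy) (mul_mem hy hx) (by
    rw [H.φ_mul (F.syl.le hx) (F.syl.le hy), H.φ_mul (F.syl.le hy) (F.syl.le hx)]
    exact funext fun j => (by decide : ∀ σ τ : S3, σ ^ 3 = 1 → τ ^ 3 = 1 → σ * τ = τ * σ) _ _ (F.φ3 H hx j) (F.φ3 H hy j))

theorem φ_ex (F : Ef t φ E e) (H : Hyp t Q φ) (k : Fin 3 → ℕ) (j : Fin 3) : φ (ex e k) j = φ (e j) j ^ k j :=
  H.φ_ex F.C (fun i j => (F.φe i j).mpr) k j

theorem pick (F : Ef t φ E e) (H : Hyp t Q φ) {p : Fin 3 → S3 → Prop}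
    (h : ∀ j (c : S3), c ^ 3 = 1 → c ≠ 1 → ∃ k < 3, p j (c ^ k)) :
    ∃ k : Fin 3 → ℕ, (∀ j, k j < 3) ∧ ∀ j, p j (φ (ex e k) j) := by
  choose k h1 h2 using fun j => h j _ (F.φ3 H (F.mem j) j) fun e => (F.φe j j).mp e rfl
  exact ⟨k, h1, fun j => F.φ_ex H k j ▸ h2 j⟩

theorem even (F : Ef t φ E e) (H : Hyp t Q φ) {σ : Fin 3 → S3} (h : ∀ j, Perm.sign (σ j) = 1) :
    ∃ k : Fin 3 → ℕ, (∀ j, k j < 3) ∧ φ (ex e k) = σ :=
  (F.pick H (p := fun j c => c = σ j) fun j c => (by decide +kernel : ∀ σ c : S3, Perm.sign σ = 1 → c ^ 3 = 1 → c ≠ 1 →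
    ∃ k < 3, c ^ k = σ) _ c (h j)).imp fun _ h => ⟨h.1, funext h.2⟩

theorem sgn (F : Ef t φ E e) (H : Hyp t Q φ) {x : G} (hx : x ∈ E) (j : Fin 3) : Perm.sign (φ x j) = 1 :=
  (by decide : ∀ σ : S3, σ ^ 3 = 1 → Perm.sign σ = 1) _ (F.φ3 H hx j)

theorem frat (F : Ef t φ E e) (H : Hyp t Q φ) {b : G} (hb : b ∈ Ce t) :
    ∃ q ∈ Q, ∀ x ∈ E, q * b * x * (q * b)⁻¹ ∈ E := by
  have : Fact (Nat.Prime 3) := ⟨Nat.prime_three⟩
  let N := ((Perm.sign.compLeft (Fin 3)).comp H.π).ker.map (Ce t).subtype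
  obtain ⟨n, ⟨n', hn, rfl⟩, h⟩ := (F.syl.of_le (M := N) (fun x hx => ⟨⟨x, F.syl.le hx⟩, funext (F.sgn H hx), rfl⟩)
    (map_subtype_le _)).frattini (g := b) (mem_normalizer_of_conj_mem (by
      rintro _ ⟨x, hx, rfl⟩
      exact ⟨_, (MonoidHom.normal_ker _).conj_mem x hx ⟨b, hb⟩, rfl⟩))
  obtain ⟨k, -, hk⟩ := F.even H (σ := φ n') (congrFun hn)
  refine ⟨_, H.mem_of_eq (ex_mem F.C k) n'.2 hk, fun x hx => ?_⟩
  have := ex_mem F.mem k
  convert mul_mem (mul_mem this (conj_mem_of_mem_normalizer h hx)) (inv_mem this) using 1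
  simp [mul_assoc]

theorem reg (F : Ef t φ E e) (M : Mp t w Q Q' φ φ') {x : G} (hx : x ∈ E)
    (h : x * w * x⁻¹ = w ∨ x * w * x⁻¹ = w * t) : x = 1 := by
  have xt := mC.mp (F.syl.le hx)
  have h1 : x * w * x⁻¹ = w := h.elim id fun e => by
    have e2 : x * (x * w * x⁻¹) * x⁻¹ = w := by
      rw [e, ← conj_mul, e, xt, mul_inv_cancel_right, mul_assoc, M.H.tt, mul_one]
    calc _ = x * (x * (x * w * x⁻¹) * x⁻¹) * x⁻¹ := by rw [e2]
      _ = x ^ 3 * w * (x ^ 3)⁻¹ := by simp [pow_succ, mul_assoc]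
      _ = w := by rw [F.cube M.H hx]; simp
  obtain ⟨b, hb, h2⟩ := M.sgn.1 fun _ => -1
  refine F.inj M.H hx (one_mem E) (M.H.φ_one ▸ funext fun j => (M.H.cen_sgn M.H' hb (F.syl.le hx)
    (mC.mpr (mul_inv_eq_iff_eq_mul.mp h1)) (h2 j)).resolve_right fun e => ?_)
  have := F.sgn M.H hx j
  rw [e, h2] at this
  cases this

end Ef

/-- An element of the normalizer of the Sylow 3-subgroup. -/
structure Tau (t : G) (φ : G → Fin 3 → S3) (e : Fin 3 → G) (i : Fin 3) (τ : G) : Prop where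
  C : τ ∈ Ce t
  act : ∀ j, τ * e j * τ⁻¹ = if j = i then (e j)⁻¹ else e j
  sg : Perm.sign (φ τ i) = -1
  φ1 : ∀ j, j ≠ i → φ τ j = 1

theorem Ef.exists_tau (F : Ef t φ E e) (M : Mp t w Q Q' φ φ') (i : Fin 3) :
    ∃ τ, Tau t φ e i τ ∧ ∃ q ∈ Q, q⁻¹ * τ ∈ Q' := by
  have H := M.H
  obtain ⟨b, hb, h1, h2⟩ := M.one i
  have b2 : b ∈ Ce t := hb.2
  obtain ⟨q, hq, h3⟩ := F.frat H b2
  have h4 : φ (q * b) = φ b := by rw [H.φ_mul (H.le hq) b2, H.φ_Q hq, one_mul]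
  have h5 := mul_mem (H.le hq) b2
  refine ⟨q * b, ⟨h5, fun j => F.inj H (h3 _ (F.mem j)) (by
    split_ifs; exacts [inv_mem (F.mem j), F.mem j]) (funext fun k => ?_), h4 ▸ h1, h4 ▸ h2⟩, q, hq, by simpa using hb.1⟩
  rw [H.φ_mul (mul_mem h5 (F.C j)) (inv_mem h5), H.φ_mul h5 (F.C j), H.φ_inv h5, h4, Pi.mul_apply, Pi.mul_apply,
    Pi.inv_apply]
  by_cases a : k = i
  · subst a
    split_ifs with c
    · rw [H.φ_inv (F.C j), Pi.inv_apply]
      exact (by decide : ∀ s c : S3, Perm.sign s = -1 → c ^ 3 = 1 → s * c * s⁻¹ = c⁻¹) _ _ h1 (F.φ3 H (F.mem j) k)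
    · rw [(F.φe j k).mpr (Ne.symm c)]; simp
  · rw [h2 k a]
    split_ifs with c
    · rw [H.φ_inv (F.C j), Pi.inv_apply, (F.φe j k).mpr (c ▸ a)]; simp
    · simp

theorem Tau.nQ {i : Fin 3} {τ : G} (T : Tau t φ e i τ) (H : Hyp t Q φ) : τ ∉ Q := fun h => by
  have := T.sg
  rw [H.φ_Q h] at this
  cases this

theorem Tau.ex {i : Fin 3} {τ : G} (T : Tau t φ e i τ) (F : Ef t φ E e) (H : Hyp t Q φ) (k : Fin 3 → ℕ) :
    τ * ex e k * τ⁻¹ = ex e (Function.update k i (2 * k i)) := by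
  have h : ∀ j, τ * e j ^ k j * τ⁻¹ = e j ^ Function.update k i (2 * k i) j := fun j => by
    rw [← conj_pow, T.act]
    split_ifs with c
    · rw [c, Function.update_self, pow_mul, inv_eq_of_mul_eq_one_right ((pow_succ' _ 2).symm.trans (F.cube H (F.mem i)))]
    · rw [Function.update_of_ne c]
  rw [O8.ex, O8.ex, ← h, ← h, ← h, conj_mul, conj_mul]

theorem Ef.beta (F : Ef t φ E e) (M : Mp t w Q Q' φ φ') (k : Fin 3 → ℕ) (hk : ∀ j, k j < 3) :
    w * ((ex e k)⁻¹ * w * ex e k) = (ex e k)⁻¹ * w * ex e k * w ↔ ∃ j, k j = 0 := by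
  have H := M.H
  have wQ := M.wQ
  choose τ T q hq hb using F.exists_tau M
  have xC := fun k => ex_mem F.C k
  have WQ := fun k => H.nrm' (xC k) wQ
  have md : ∀ {p x y : G}, x ∈ Ce t → (x * p * x⁻¹ = y ∨ x * p * x⁻¹ = y * t) → ∀ q ∈ Q, y ∈ Q →
      q * x * p * (q * x)⁻¹ = y ∨ q * x * p * (q * x)⁻¹ = y * t := fun {p x y} _ h q hq hy => by
    rw [show q * x * p * (q * x)⁻¹ = q * (x * p * x⁻¹) * q⁻¹ by group]
    rcases h with e | e <;> rw [e]
    · exact H.cj hq hy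
    · exact (H.cj hq (mul_mem hy H.tQ)).symm.imp (fun e => by rw [e, mul_assoc, H.tt, mul_one]) id
  have tw : ∀ i, τ i * w * (τ i)⁻¹ = w ∨ τ i * w * (τ i)⁻¹ = w * t := fun i => by
    have := md (mul_mem (inv_mem (H.le (hq i))) (T i).C)
      (.inl (mul_inv_eq_iff_eq_mul.mpr (mC.mp (M.H'.le (hb i))))) _ (hq i) wQ
    rwa [mul_inv_cancel_left] at this
  have tW : ∀ i k, τ i * ((ex e k)⁻¹ * w * ex e k) * (τ i)⁻¹ = (ex e (Function.update k i (2 * k i)))⁻¹ * w *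
        ex e (Function.update k i (2 * k i)) ∨ τ i * ((ex e k)⁻¹ * w * ex e k) * (τ i)⁻¹ =
      (ex e (Function.update k i (2 * k i)))⁻¹ * w * ex e (Function.update k i (2 * k i)) * t := fun i k => by
    rw [← conj_mul, ← conj_mul, ← conj_inv, (T i).ex F H]
    refine (tw i).imp (fun e => by rw [e]) fun e => ?_
    rw [e, mul_assoc _ _ t, mC.mp (xC _)]; group
  have h0 : ∀ k : Fin 3 → ℕ, (∃ j, k j = 0) → w * ((ex e k)⁻¹ * w * ex e k) = (ex e k)⁻¹ * w * ex e k * w := by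
    rintro k ⟨j, hj⟩
    refine (M.beta0 (hb j) (fun e => (T j).nQ H ((mul_mem_cancel_left (inv_mem (hq j))).mp e)) (WQ k)
      (md (T j).C ?_ _ (inv_mem (hq j)) (WQ k))).symm
    have := tW j k
    rwa [show 2 * k j = k j by omega, Function.update_eq_self] at this
  refine ⟨fun h => by_contra fun h1 => ?_, h0 k⟩
  have fl : ∀ i (k : Fin 3 → ℕ), w * ((ex e k)⁻¹ * w * ex e k) = (ex e k)⁻¹ * w * ex e k * w →
      w * ((ex e (Function.update k i (2 * k i)))⁻¹ * w * ex e (Function.update k i (2 * k i))) =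
        (ex e (Function.update k i (2 * k i)))⁻¹ * w * ex e (Function.update k i (2 * k i)) * w := fun i k h => by
    rw [← H.md (WQ _) w (tW i k) wQ, eq_comm, ← H.md wQ _ (tw i) (H.nrm (T i).C (WQ k)), conj_mul, conj_mul, h]
  have m3 : ∀ k : Fin 3 → ℕ, ex e (fun j => k j % 3) = ex e k := fun k => by
    simp only [ex, ← pow_eq_pow_mod _ (F.cube H (F.mem _))]
  have al : ∀ x ∈ E, w * (x⁻¹ * w * x) = x⁻¹ * w * x * w := fun x hx => by
    obtain ⟨l, hl, e1⟩ := F.even H (F.sgn H hx)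
    obtain rfl := F.inj H (ex_mem F.mem l) hx e1
    by_cases h2 : ∃ j, l j = 0
    · exact h0 l h2
    have st : ∀ i (k : Fin 3 → ℕ), k i % 3 ≠ 0 → w * ((ex e k)⁻¹ * w * ex e k) = (ex e k)⁻¹ * w * ex e k * w →
        w * ((ex e (Function.update k i (l i)))⁻¹ * w * ex e (Function.update k i (l i))) =
          (ex e (Function.update k i (l i)))⁻¹ * w * ex e (Function.update k i (l i)) * w := fun i k a b => by
      have c := hl i
      have d : l i ≠ 0 := fun e => h2 ⟨i, e⟩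
      by_cases f : k i % 3 = l i % 3
      · rwa [← m3, show (fun j => Function.update k i (l i) j % 3) = fun j => k j % 3 from funext fun j => by
          by_cases g : j = i <;> simp [g, f], m3]
      · have := fl i k b
        rwa [← m3, show (fun j => Function.update k i (2 * k i) j % 3) = fun j => Function.update k i (l i) j % 3 from
          funext fun j => by by_cases g : j = i <;> simp [g]; omega, m3] at this
    have k0 : ∀ j, k j % 3 ≠ 0 := fun j e => h1 ⟨j, by have := hk j; omega⟩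
    have := st 2 _ (by simpa using k0 2) (st 1 _ (by simpa using k0 1) (st 0 k (k0 0) h))
    rwa [show Function.update (Function.update (Function.update k 0 (l 0)) 1 (l 1)) 2 (l 2) = l from
      funext fun j => by fin_cases j <;> simp] at this
  have h2 := H.ab_le (A := closure (insert t ((fun x => x⁻¹ * w * x) '' E))) ((closure_le Q).mpr (by
    rintro _ (rfl | ⟨x, hx, rfl⟩)
    exacts [H.tQ, H.nrm' (F.syl.le hx) wQ])) (ab_closure (by
      rintro _ (rfl | ⟨x, hx, rfl⟩) _ (rfl | ⟨y, hy, rfl⟩)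
      · rfl
      · exact (mC.mp (H.le (H.nrm' (F.syl.le hy) wQ))).symm
      · exact mC.mp (H.le (H.nrm' (F.syl.le hx) wQ))
      · calc _ = x⁻¹ * (w * ((y * x⁻¹)⁻¹ * w * (y * x⁻¹))) * x := by group
          _ = _ := by rw [al _ (mul_mem hy (inv_mem hx))]; group))
  have k1 : ∀ x y : E, (x.1⁻¹ * w * x = y.1⁻¹ * w * y ∨ x.1⁻¹ * w * x = y.1⁻¹ * w * y * t) → x = y := fun x y h =>
    Subtype.ext (mul_inv_eq_one.mp (F.reg M (mul_mem y.2 (inv_mem x.2)) (h.imp (fun e => by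
      calc _ = y * (x.1⁻¹ * w * x) * y.1⁻¹ := by group
        _ = _ := by rw [e]; group) fun e => by
      calc _ = y * (x.1⁻¹ * w * x) * y.1⁻¹ := by group
        _ = _ := by rw [e, mul_assoc _ _ t, mC.mp (F.syl.le y.2)]; group))).symm
  have h3 := Nat.card_le_card_of_injective (Sum.elim (fun x => ⟨_, subset_closure (.inr ⟨x.1, x.2, rfl⟩)⟩)
    (fun x => ⟨_, mul_mem (subset_closure (.inr ⟨x.1, x.2, rfl⟩)) (subset_closure (.inl rfl))⟩) :
      E ⊕ E → closure (insert t ((fun x => x⁻¹ * w * x) '' E))) (by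
    rintro (x | x) (y | y) e <;> have e' := congrArg Subtype.val e
    · exact congrArg _ (k1 x y (.inl e'))
    · obtain rfl := k1 x y (.inr e')
      exact absurd (mul_left_cancel (e'.symm.trans (mul_one _).symm)) H.t1
    · obtain rfl := k1 y x (.inr e'.symm)
      exact absurd (mul_left_cancel (e'.trans (mul_one _).symm)) H.t1
    · exact congrArg _ (k1 x y (.inl (mul_right_cancel e'))))
  rw [Nat.card_sum, F.card H] at h3
  omega

end Cfsg.Agent.O8
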