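import Cfsg.Agent.O8.Bas

/-! The generators and their relations. -/

set_option autoImplicit false
set_option linter.unusedSectionVars false

namespace Cfsg.Agent.O8

open Subgroup Cfsg.Agent.Local Equiv Cfsg.Agent.Mat

variable {G : Type*} [Group G] [Finite G] {t w m : G} {Q Q' E : Subgroup G} {φ φ' : G → Fin 3 → S3} {e τ : Fin 3 → G}

/-- The normalized frame. -/
structure Fr (t w : G) (Q Q' E : Subgroup G) (φ φ' : G → Fin 3 → S3) (e : Fin 3 → G) : Prop where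
  M : Mp t w Q Q' φ φ'
  F : Ef t φ E e
  hp : ∀ i, pw w (e i) = 1

theorem Hyp.exists_fr (H : Hyp t Q φ) (hw : w ∈ Q) (hc : IsConj t w) (ne : w ≠ t) :
    ∃ w Q' E φ' e, Fr t w Q Q' E φ φ' e := by
  obtain ⟨E, e, F⟩ := H.exists_ef
  obtain ⟨Q', φ', H'⟩ := H.exists_conj hc
  have M : Mp t w Q Q' φ φ' := ⟨H, H', hw, ne⟩
  rcases M.trace F with h | h
  · exact ⟨_, _, _, _, _, M, F, h⟩
  obtain ⟨Q1, φ1, H1⟩ := H.exists_conj (u := w * t)
    (hc.trans (isConj_iff.mpr ⟨_, (M.bas F e).anti H (x := 11) (y := 1) (by decide)⟩))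
  exact ⟨_, _, _, _, _, ⟨H, H1, mul_mem hw H.tQ, by simpa using H'.t1⟩, F, fun i => by
    rw [pw_t H.tt (H.le hw) (F.C i), h, H.tt]⟩

theorem cjm (g a b : G) : g * (a * b) * g⁻¹ = g * a * g⁻¹ * (g * b * g⁻¹) := conj_mul.symm

theorem Hyp.mdq (H : Hyp t Q φ) {q y z : G} (hq : q ∈ Q) (hy : y ∈ Q) (h : z = y ∨ z = y * t) :
    q * z * q⁻¹ = y ∨ q * z * q⁻¹ = y * t := by
  rcases h with rfl | rfl
  · exact H.cj hq hy
  · exact (H.cj hq (mul_mem hy H.tQ)).symm.imp (fun e => by rw [e, mul_assoc, H.tt, mul_one]) id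

theorem Fr.tau (P : Fr t w Q Q' E φ φ' e) :
    (∀ a < 5, gg (gA t w e e) a ∈ Q') ∧ ∃ τ : Fin 3 → G, ∀ i, Tau t φ e i (τ i) ∧ τ i ∈ Q' := by
  have M := P.M
  have H := M.H
  choose τ T q hq hb using P.F.exists_tau M
  have B := M.bas P.F τ
  have bw := fun i => mul_inv_eq_iff_eq_mul.mpr (mC.mp (M.H'.le (hb i)))
  have cj : ∀ i x, τ i * x * (τ i)⁻¹ = q i * ((q i)⁻¹ * τ i * x * ((q i)⁻¹ * τ i)⁻¹) * (q i)⁻¹ := fun i x => by group
  have tw : ∀ i, τ i * w * (τ i)⁻¹ = w := fun i => (cj i w ▸ H.mdq (hq i) M.wQ (.inl (bw i))).resolve_right fun h => by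
    have h1 := (T i).act (i + 1)
    rw [if_neg (by omega)] at h1
    have h2 := pw_t H.tt (H.le M.wQ) (P.F.C (i + 1))
    rw [P.hp, one_mul, ← h, ← h1, pw, conj_inv, conj_mul, conj_mul, conj_mul, conj_mul, conj_mul, conj_mul, ← pw,
      P.hp] at h2
    exact H.t1 (by simpa using h2.symm)
  have R : ∀ r ∈ RA1, ev (gA t w e τ) r = 1 := by
    simp only [RA1, List.forall_mem_append (l₂ := tauA), List.forall_mem_append (l₂ := pp),
      List.forall_mem_append (l₂ := cmB)]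
    refine ⟨⟨⟨M.relA P.F τ, B.rel⟩, fun r hr => ?_⟩, ?_⟩
    · obtain ⟨i, rfl⟩ := (by decide : ∀ r ∈ pp, ∃ i : Fin 3, pp.getD i [] = r) r hr
      rw [ev_pp, P.hp]
    · have k : ∀ i x y z, τ i * x * (τ i)⁻¹ = y → τ i * (x * ((τ i)⁻¹ * z)) = y * z := fun i x y z h => by
        rw [← h]; group
      simp [tauA, gA, gl, ev, k _ _ _ _ (tw _), k _ _ _ _ ((T _).act _),
        k _ _ _ _ (mul_inv_eq_iff_eq_mul.mpr (mC.mp (T _).C)), H.tt, M.H'.tt]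
  have R2 := der derA2 rfl R
  have act : ∀ (i : Fin 3) (a : ℕ) (v : List ℕ), [8 + i.1, a, 12 + i.1, a] ++ v ∈ tgA →
      τ i * gg (gA t w e τ) a * (τ i)⁻¹ = (gg (gA t w e τ) a * ev (gA t w e τ) v)⁻¹ := fun i a v h => by
    refine eq_inv_of_mul_eq_one_left ((?_ : _ = _).trans (R2 _ h))
    fin_cases i <;> simp only [ev_append, ev, mul_assoc, one_mul] <;> rfl
  have dQ : ∀ (i : Fin 3) (a d : ℕ), [8 + i.1, a, 12 + i.1, a] ++ [d] ∈ tgA → a ∈ bs → d ∈ bs → com a 1 [] = true →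
      gg (gA t w e τ) d ∈ Q' := fun i a d h ha hd hc => by
    have h1 := act i a _ h
    rw [ev, ev, mul_one, mul_inv_rev, inv_eq_of_mul_eq_one_right (B.sq a ha), inv_eq_of_mul_eq_one_right (B.sq d hd)] at h1
    have h2 := H.mdq (inv_mem (hq i)) (mul_mem (B.mem d hd) (B.mem a ha)) (.inl h1)
    have h3 := mul_mem (hb i) (M.H'.nrm (mC.mpr (B.com0 hc)) (inv_mem (hb i)))
    have h4 := mC.mp (H.le (B.mem a ha))
    generalize gg (gA t w e τ) a = x at *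
    rw [show (q i)⁻¹ * τ i * (x * ((q i)⁻¹ * τ i)⁻¹ * x⁻¹) = (q i)⁻¹ * (τ i * x * (τ i)⁻¹) * (q i)⁻¹⁻¹ * x⁻¹ by group] at h3
    rcases h2 with e | e <;> rw [e] at h3
    · simpa using h3
    · rwa [mul_assoc _ x, h4, ← mul_assoc, mul_inv_cancel_right, mul_mem_cancel_right M.tQ] at h3
  have D : ∀ a < 5, gg (gA t w e τ) a ∈ Q' := fun a ha => by
    interval_cases a
    exacts [M.tQ, M.H'.tQ, dQ 2 6 2 (by decide) (by decide) (by decide) (by decide),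
      dQ 2 5 3 (by decide) (by decide) (by decide) (by decide), dQ 1 5 4 (by decide) (by decide) (by decide) (by decide)]
  refine ⟨fun a ha => by have := D a ha; interval_cases a <;> exact this, τ, fun i => ⟨T i,
    (mul_mem_cancel_left (inv_mem (B.nfD H D (hq i) fun a ha => ?_))).mp (hb i)⟩⟩
  have qw : q i * w * (q i)⁻¹ = w := by have := cj i w; rwa [bw, tw, eq_comm] at this
  obtain rfl | ⟨ha, h1, h2⟩ := (by decide : ∀ (i : Fin 3), ∀ a ∈ [2, 3, 4, 1], a = 1 ∨ a ∈ bs ∧ a < 5 ∧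
    ([8 + i.1, a, 12 + i.1, a] ++ [] ∈ tgA ∨ [8 + i.1, a, 12 + i.1, a] ++ [1] ∈ tgA)) i a ha
  · exact mul_inv_eq_iff_eq_mul.mp qw
  refine mul_inv_eq_iff_eq_mul.mp ((H.cj (hq i) (B.mem a ha)).resolve_right fun h3 => ?_)
  have h4 : τ i * gg (gA t w e τ) a * (τ i)⁻¹ = gg (gA t w e τ) a ∨
      τ i * gg (gA t w e τ) a * (τ i)⁻¹ = gg (gA t w e τ) a * w := h2.imp
    (fun h => by rw [act i a _ h, ev, mul_one, inv_eq_of_mul_eq_one_right (B.sq a ha)]) fun h => by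
      rw [act i a _ h, show ev (gA t w e τ) [1] = w from mul_one w, mul_inv_rev, M.H'.ti,
        inv_eq_of_mul_eq_one_right (B.sq a ha), mC.mp (M.H'.le (D a h1))]
  have h5 := M.H'.cj (hb i) (D a h1)
  rw [cj] at h4
  have n1 := H.t1
  have n2 := M.ne.symm
  have n3 : t * w ≠ 1 := fun e => n2 ((eq_inv_of_mul_eq_one_left e).trans M.H'.ti)
  rcases h5 with e | e <;> rw [e] at h4
  · rw [h3] at h4; simp [n1, n2] at h4
  · rw [cjm, h3, qw] at h4; simp [mul_assoc, n1, n3] at h4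

theorem Fr.nc (P : Fr t w Q Q' E φ φ' e) (i : Fin 3) : w * e i ≠ e i * w := fun h => (P.F.φe i i).mp (by
  rw [P.F.reg P.M (P.F.mem i) (.inl (mul_inv_eq_iff_eq_mul.mpr h.symm)), P.M.H.φ_one]; rfl) rfl

theorem Fr.tau_sq (P : Fr t w Q Q' E φ φ' e) {i : Fin 3} {τ : G} (T : Tau t φ e i τ) (h : τ ∈ Q') : τ * τ = 1 :=
  (P.M.H'.sq τ h).resolve_right fun k => P.nc i (by
    have h1 := T.act i
    rw [if_pos rfl] at h1
    rw [← k, ← mul_inv_eq_iff_eq_mul, mul_inv_rev, ← mul_assoc, mul_assoc τ τ, mul_assoc τ (τ * _), h1, ← conj_inv, h1,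
      inv_inv])

theorem Fr.tau_cm (P : Fr t w Q Q' E φ φ' e) {i j : Fin 3} {σ τ : G} (S : Tau t φ e i σ) (T : Tau t φ e j τ)
    (h : σ ∈ Q') (h' : τ ∈ Q') : σ * τ = τ * σ :=
  (P.M.H'.cm σ h τ h').resolve_right fun k => P.nc 0 (by
    have h1 : σ * τ * e 0 * (σ * τ)⁻¹ = τ * σ * e 0 * (τ * σ)⁻¹ := by
      rw [mul_inv_rev, mul_inv_rev, ← mul_assoc, ← mul_assoc, mul_assoc σ τ, mul_assoc τ σ, mul_assoc σ (τ * _),
        mul_assoc τ (σ * _), S.act, T.act]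
      have a := S.act 0
      have b := T.act 0
      split_ifs at a b ⊢ <;> simp only [← conj_inv, a, b, inv_inv]
    rw [k] at h1
    calc _ = (τ * σ)⁻¹ * (τ * σ * w * e 0 * (τ * σ * w)⁻¹) * (τ * σ * w) := by group
      _ = _ := by rw [h1]; group)

theorem Tau.mul_t {i : Fin 3} {τ : G} (T : Tau t φ e i τ) (H : Hyp t Q φ) (F : Ef t φ E e) : Tau t φ e i (τ * t) := by
  have h : φ (τ * t) = φ τ := by rw [H.φ_mul T.C H.tC, H.φ_Q H.tQ, mul_one]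
  refine ⟨mul_mem T.C H.tC, fun j => ?_, h ▸ T.sg, h ▸ T.φ1⟩
  rw [← T.act, mul_assoc τ, ← mC.mp (F.C j)]
  group

theorem Tau.dec (T : ∀ i, Tau t φ e i (τ i)) (H : Hyp t Q φ) {z : G} (hz : z ∈ Ce t)
    (h : ∀ j, φ z j = 1 ∨ φ z j = φ (τ j) j) : ∃ k : Fin 3 → ℕ, (∀ j, k j < 2) ∧ z * (O8.ex τ k)⁻¹ ∈ Q := by
  have : ∀ j, ∃ k < 2, φ z j = φ (τ j) j ^ k := fun j =>
    (h j).elim (fun e => ⟨0, by decide, e⟩) fun e => ⟨1, by decide, e⟩
  choose k h1 h2 using this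
  exact ⟨k, h1, H.mem_of_eq hz (ex_mem (fun i => (T i).C) k) (funext fun j =>
    (h2 j).trans (H.φ_ex (fun i => (T i).C) (fun i => (T i).φ1) k j).symm)⟩

theorem Mp.cent8 (M : Mp t w Q Q' φ φ') {x : G} (h1 : x ∈ Ce t) (h2 : x ∈ Ce w) : x ^ 8 = 1 := by
  obtain ⟨b, hb, h⟩ := M.sgn.1 fun _ => -1
  rw [show x ^ 8 = (x * x) ^ 4 by rw [← pow_two, ← pow_mul]]
  refine M.H.pow4 ((M.H.ker _ (mul_mem h1 h1)).mp (M.H.φ_mul h1 h1 ▸ funext fun j => ?_))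
  rcases M.H.cen_sgn M.H' hb h1 h2 (h j) with e | e <;> rw [Pi.mul_apply, e]
  exacts [rfl, M.H.two inf_le_right (fun x hx => M.H'.pow4 hx.1) hb j]

theorem Fr.exists_m (P : Fr t w Q Q' E φ φ' e) : ∃ m, m * m = 1 ∧ ∀ τ, ∀ r ∈ mB, ev (gB t w e τ m) r = 1 := by
  have M := P.M
  have H := M.H
  have B := M.bas P.F e
  have D := P.tau.1
  have tt := H.tt
  have ww := M.H'.tt
  have wt := mC.mp (H.le M.wQ)
  obtain ⟨r, hr⟩ : ∃ r, r = gg (gA t w e e) 11 := ⟨_, rfl⟩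
  have rQ : r ∈ Q := hr ▸ B.mem 11 (by decide)
  have rr : r * r = 1 := hr ▸ B.sq 11 (by decide)
  have ri := inv_eq_of_mul_eq_one_right rr
  have rt : r * t * r⁻¹ = t := mul_inv_eq_iff_eq_mul.mpr (mC.mp (H.le rQ))
  have rw' : r * w * r⁻¹ = w * t := hr ▸ B.anti H (x := 11) (y := 1) (by decide)
  obtain ⟨s, sQ, ss, st⟩ : ∃ s ∈ Q', s * s = 1 ∧ s * t * s⁻¹ = t * w := by
    obtain ⟨s, hs, h⟩ : ∃ s ∈ Q', s * t * s⁻¹ = t * w := by
      by_contra! h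
      exact (M.H'.cen t M.tQ fun q hq => (mul_inv_eq_iff_eq_mul.mp
        ((M.H'.cj hq M.tQ).resolve_right (h q hq))).symm).elim H.t1 M.ne.symm
    have sw : s * w * s⁻¹ = w := mul_inv_eq_iff_eq_mul.mpr (mC.mp (M.H'.le hs))
    have k : ∀ x, r * s * r * x * (r * s * r)⁻¹ = r * (s * (r * x * r⁻¹) * s⁻¹) * r⁻¹ := fun x => by group
    have h1 : r * s * r * t * (r * s * r)⁻¹ = w := by
      rw [k, rt, h, cjm, rt, rw', wt, ← mul_assoc, tt, one_mul]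
    have h2 : r * s * r * w * (r * s * r)⁻¹ = t := by
      rw [k, rw', cjm s, sw, h, ← wt, ← mul_assoc w w, ww, one_mul, rt]
    refine ⟨_, H.link M.H' h1 rQ, by rw [conj_mul, rr]; simp, ?_⟩
    generalize r * s * r = x at h1 h2
    calc _ = x * r * x⁻¹ * (x * w * x⁻¹) * (x * r * x⁻¹)⁻¹ := by rw [h2]
      _ = x * (r * w * r⁻¹) * x⁻¹ := by group
      _ = _ := by rw [rw', cjm, h1, h2]
  have sw : s * w * s⁻¹ = w := mul_inv_eq_iff_eq_mul.mpr (mC.mp (M.H'.le sQ))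
  have k : ∀ x, r * s * x * (r * s)⁻¹ = r * (s * x * s⁻¹) * r⁻¹ := fun x => by group
  have a1 : r * s * t * (r * s)⁻¹ = w := by rw [k, st, cjm, rt, rw', wt, ← mul_assoc, tt, one_mul]
  have a2 : r * s * w * (r * s)⁻¹ = w * t := by rw [k, sw, rw']
  have ri' : r * (r * s) * r⁻¹ = (r * s)⁻¹ := by
    rw [← mul_assoc, rr, one_mul, mul_inv_rev, inv_eq_of_mul_eq_one_right ss]
  have kl : Char.Kl t w := ⟨tt, ww, wt.symm⟩
  let N : Submonoid G := {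
    carrier := {x | x ∈ normalizer (kl.V : Set G) ∧ ∀ d ∈ Q, d ∈ Q' → d⁻¹ * (x * d * x⁻¹) ∈ kl.V}
    one_mem' := ⟨one_mem _, by simp⟩
    mul_mem' := fun {x y} hx hy => ⟨mul_mem hx.1 hy.1, fun d h1 h2 => by
      simpa [mul_assoc] using mul_mem (hx.2 d h1 h2) (conj_mem_of_mem_normalizer hx.1 (hy.2 d h1 h2))⟩ }
  have tU : t ∈ kl.V := .inr (.inl rfl)
  have wU : w ∈ kl.V := .inr (.inr (.inl rfl))
  have rN : r ∈ N := ⟨kl.mem_norm (rt.symm ▸ tU) (rw'.symm ▸ mul_mem wU tU), fun d h1 _ => by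
    rcases H.cj rQ h1 with e | e <;> simp [e, tU]⟩
  have sN : s ∈ N := ⟨kl.mem_norm (st.symm ▸ mul_mem tU wU) (sw.symm ▸ wU), fun d _ h1 => by
    rcases M.H'.cj sQ h1 with e | e <;> simp [e, wU]⟩
  have ρN := mul_mem rN sN
  generalize r * s = ρ at a1 a2 ri' ρN
  have a3 : ρ * (w * t) * ρ⁻¹ = t := by rw [cjm, a1, a2, wt, mul_assoc, ww, mul_one]
  have c3 : ∀ x, ρ ^ 3 * x * (ρ ^ 3)⁻¹ = ρ * (ρ * (ρ * x * ρ⁻¹) * ρ⁻¹) * ρ⁻¹ := fun x => by simp [pow_succ, mul_assoc]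
  have b1 : ρ ^ 3 ∈ Ce t := mC.mpr (mul_inv_eq_iff_eq_mul.mp (by rw [c3, a1, a2, a3]))
  have b3 : (ρ ^ 8) ^ 3 = 1 := by
    rw [← pow_mul, mul_comm, pow_mul]
    exact M.cent8 b1 (mC.mpr (mul_inv_eq_iff_eq_mul.mp (by rw [c3, a2, a3, a1])))
  have b4 : r * ρ ^ 8 * r⁻¹ = (ρ ^ 8)⁻¹ := by rw [← conj_pow, ri', inv_pow]
  have b5 : ρ ^ 8 * t * (ρ ^ 8)⁻¹ = w * t := by
    calc _ = ρ * (ρ * ((ρ ^ 3) ^ 2 * t * ((ρ ^ 3) ^ 2)⁻¹) * ρ⁻¹) * ρ⁻¹ := by group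
      _ = _ := by rw [mC.mp (pow_mem b1 2), mul_inv_cancel_right, a1, a2]
  have mN := mul_mem rN (pow_mem ρN 8)
  have m1 : r * ρ ^ 8 * (r * ρ ^ 8) = 1 := by
    rw [← mul_assoc, ← inv_mul_cancel (ρ ^ 8), ← b4, ri]
  have m2 : r * ρ ^ 8 * t * (r * ρ ^ 8)⁻¹ = w := by
    calc _ = r * (ρ ^ 8 * t * (ρ ^ 8)⁻¹) * r⁻¹ := by group
      _ = _ := by rw [b5, cjm, rw', rt, mul_assoc, tt, mul_one]
  have m3 : (r * ρ ^ 8 * r⁻¹) ^ 3 = 1 := by rw [b4, inv_pow, b3, inv_one]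
  rw [ri] at m3
  generalize r * ρ ^ 8 = m at mN m1 m2 m3
  have mi := inv_eq_of_mul_eq_one_right m1
  have m4 : m * w * m⁻¹ = t := by rw [← m2, mi, ← mul_assoc, ← mul_assoc, m1, one_mul, mul_assoc, m1, mul_one]
  have n3 : t * w ≠ 1 := fun e => M.ne ((eq_inv_of_mul_eq_one_right e).trans H.ti)
  have kd : ∀ j : Fin 3, ∃ k, m * gg (gA t w e e) (2 + j) * m⁻¹ = gg (gA t w e e) (2 + j) * (t * w) ^ k := fun j => by
    have h1 := mN.2 _ (B.mem (2 + j) (by revert j; decide)) (D _ (by omega))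
    generalize gg (gA t w e e) (2 + j) = d at *
    have h2 : d⁻¹ * (m * d * m⁻¹) * (m * (d⁻¹ * (m * d * m⁻¹)) * m⁻¹) = 1 := by
      calc _ = d⁻¹ * (m * m) * d * (m * m)⁻¹ := by group
        _ = _ := by rw [m1]; simp
    rcases h1 with h | h | h | h <;> rw [h] at h2
    exacts [⟨0, by rw [pow_zero, ← h]; simp⟩, (n3 (m2 ▸ h2)).elim, (n3 (wt ▸ m4 ▸ h2)).elim, ⟨1, by rw [pow_one, ← h]; simp⟩]
  choose k hk using kd
  have aQ : ∀ i : Fin 3, gg (gA t w e e) (5 + i) ∈ Q := fun i => B.mem _ (by revert i; decide)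
  have ad : ∀ j : Fin 3, ex (fun i => gg (gA t w e e) (5 + i)) k * gg (gA t w e e) (2 + j) *
      (ex (fun i => gg (gA t w e e) (5 + i)) k)⁻¹ = gg (gA t w e e) (2 + j) * t ^ k j := fun j => by
    have h1 : ∀ i : Fin 3, gg (gA t w e e) (5 + i) * gg (gA t w e e) (2 + j) * (gg (gA t w e e) (5 + i))⁻¹ =
        gg (gA t w e e) (2 + j) * t ^ if i = j then 1 else 0 := fun i => by
      split_ifs with h
      · rw [pow_one, h]; exact B.anti H ((by decide : ∀ j : Fin 3, com (5 + j) (2 + j) [0] = true) j)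
      · rw [pow_zero, mul_one]
        exact mul_inv_eq_iff_eq_mul.mpr (B.com0 ((by decide : ∀ i j : Fin 3, ¬ i = j → com (5 + i) (2 + j) [] = true) i j h))
    generalize gg (gA t w e e) (2 + j) = d at *
    have h2 : ∀ x ∈ Q, ∀ y n n', x * d * x⁻¹ = d * t ^ n → y * d * y⁻¹ = d * t ^ n' →
        x * y * d * (x * y)⁻¹ = d * t ^ (n + n') := fun x hx y n n' a b => by
      calc _ = x * (y * d * y⁻¹) * x⁻¹ := by group
        _ = _ := by rw [b, cjm, a, ← conj_pow, mC.mp (H.le hx), mul_inv_cancel_right, pow_add, mul_assoc]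
    have h3 : ∀ x ∈ Q, ∀ n l, x * d * x⁻¹ = d * t ^ n → x ^ l * d * (x ^ l)⁻¹ = d * t ^ (l * n) := fun x hx n l a => by
      induction l with
      | zero => simp
      | succ l ih => rw [pow_succ, h2 _ (pow_mem hx l) _ _ _ ih a, Nat.succ_mul]
    rw [ex, h2 _ (mul_mem (pow_mem (aQ 0) _) (pow_mem (aQ 1) _)) _ _ _ (h2 _ (pow_mem (aQ 0) _) _ _ _
      (h3 _ (aQ 0) _ _ (h1 0)) (h3 _ (aQ 1) _ _ (h1 1))) (h3 _ (aQ 2) _ _ (h1 2))]
    fin_cases j <;> simp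
  have at' := mC.mp (H.le (ex_mem aQ k))
  have aw : _ * w = w * _ := mC.mp (ex_mem (K := Ce w) (fun i : Fin 3 => mC.mpr
    (B.com0 (x := 5 + i) (y := 1) (by revert i; decide))) k)
  have ar : _ * r = r * _ := mC.mp (ex_mem (K := Ce r) (fun i : Fin 3 => mC.mpr
    (hr ▸ B.com0 (x := 5 + i) (y := 11) (by revert i; decide))) k)
  generalize ex (fun i : Fin 3 => gg (gA t w e e) (5 + i)) k = a at *
  have m5 : a⁻¹ * m * a * (a⁻¹ * m * a) = 1 := by simp [mul_assoc, ← mul_assoc m m, m1]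
  have m6 : ∀ x y, m * (a * x * a⁻¹) * m⁻¹ = a * y * a⁻¹ → y * y = 1 → a⁻¹ * m * a * (x * (a⁻¹ * m * a * (y * 1))) = 1 :=
    fun x y h h' => by
    calc _ = a⁻¹ * (m * (a * x * a⁻¹) * m) * a * y := by group
      _ = _ := by rw [mi] at h; rw [h]; simp [mul_assoc, h']
  have m7 : ∀ j : Fin 3, a⁻¹ * m * a * (gg (gA t w e e) (2 + j) * (a⁻¹ * m * a * (gg (gA t w e e) (2 + j) * 1))) = 1 :=
    fun j => m6 _ _ (by
      rw [ad, cjm, hk, ← conj_pow, m2, mul_assoc, ← (Commute.mul_left (show Commute t w from wt.symm) (Commute.refl w)).mul_pow, mul_assoc, ww,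
        mul_one]) (B.sq _ (by revert j; decide))
  refine ⟨a⁻¹ * m * a, m5, fun τ => ?_⟩
  simp only [mB, List.forall_mem_cons]
  refine ⟨m6 t w (by rw [at', aw, mul_inv_cancel_right, mul_inv_cancel_right, m2]) ww, ?_, m7 0, m7 1, m7 2, by simp⟩
  have h1 : a⁻¹ * m * a * r = a⁻¹ * (m * r) * a⁻¹⁻¹ := by rw [mul_assoc, ar]; group
  calc _ = (a⁻¹ * m * a * r) ^ 3 := by
        generalize a⁻¹ * m * a = x
        simp [hr, gA, gB, gl, ev, pow_succ, mul_assoc]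
    _ = _ := by rw [h1, conj_pow, m3]; simp

end Cfsg.Agent.O8
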