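import Cfsg.Agent.O8.Frame2

/-! The relations of `Ω₈⁺(2)` hold. -/

set_option autoImplicit false
set_option linter.unusedSectionVars false
set_option maxRecDepth 100000
set_option synthInstance.maxSize 4000

namespace Cfsg.Agent.O8

open Subgroup Cfsg.Agent.Local Equiv Cfsg.Agent.Mat

variable {G : Type*} [Group G] [Finite G] {t w m : G} {Q Q' E : Subgroup G} {φ φ' : G → Fin 3 → S3} {e τ : Fin 3 → G}

theorem Fr.basB (P : Fr t w Q Q' E φ φ' e) (τ : Fin 3 → G) (m : G) : Bas t Q (gB t w e τ m) := by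
  have B := P.M.bas P.F τ
  have k : ∀ a ∈ bs, gg (gB t w e τ m) a = gg (gA t w e τ) a := by
    simp only [bs, List.forall_mem_cons]
    exact ⟨rfl, rfl, rfl, rfl, rfl, rfl, rfl, rfl, by simp⟩
  exact ⟨rfl, fun a ha => k a ha ▸ B.mem a ha, fun a ha => k a ha ▸ B.sq a ha, fun r hr =>
    (gl_congr m ((by decide : ∀ r ∈ cmB, ∀ a ∈ r, a < 12 ∨ 15 < a) r hr)).trans (B.rel r hr)⟩

theorem Fr.relB (P : Fr t w Q Q' E φ φ' e) (T : ∀ i, Tau t φ e i (τ i) ∧ τ i ∈ Q') (mm : m * m = 1)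
    (hm : ∀ r ∈ mB, ev (gB t w e τ m) r = 1) : ∀ r ∈ RB1, ev (gB t w e τ m) r = 1 := by
  have M := P.M
  have H := M.H
  have sq := fun i => P.tau_sq (T i).1 (T i).2
  have sq' : ∀ i x, τ i * (τ i * x) = x := fun i x => by rw [← mul_assoc, sq, one_mul]
  have k : ∀ i x y z, τ i * x * (τ i)⁻¹ = y → τ i * (x * (τ i * z)) = y * z := fun i x y z h => by
    rw [← h, inv_eq_of_mul_eq_one_right (sq i)]; group
  have k1 := fun i j z => k i _ _ z ((T i).1.act j)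
  have h1 : ∀ r ∈ nA, ev (gB t w e τ m) r = 1 := fun r hr => by
    obtain ⟨h1, h2⟩ := (by decide +kernel : ∀ r ∈ nA, (∀ a ∈ r, a < 12 ∨ 15 < a) ∧
      (r ∈ RA0 ∨ r ∈ cmB ∨ ∃ i : Fin 3, pp.getD i [] = r)) r hr
    rw [gl_congr m h1]
    rcases h2 with h | h | ⟨i, rfl⟩
    exacts [M.relA P.F τ r h, (M.bas P.F τ).rel r h, (ev_pp i).trans (P.hp i)]
  have h2 : ∀ r ∈ invB, ev (gB t w e τ m) r = 1 := fun r hr => by
    rcases (by decide : ∀ r ∈ invB, r ∈ nA ∨ r ∈ [[8, 8], [9, 9], [10, 10], [12, 12], [13, 13], [14, 14], [15, 15]]) r hr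
      with h | h
    · exact h1 r h
    · clear hr
      revert r
      simp [gB, gl, ev, sq, mm, mul_assoc, k1]
  have h3 : ∀ r ∈ tauB, ev (gB t w e τ m) r = 1 := by
    simp [tauB, gB, gl, ev, k1, k _ _ _ _ (mul_inv_eq_iff_eq_mul.mpr (mC.mp (T _).1.C)),
      k _ _ _ _ (mul_inv_eq_iff_eq_mul.mpr (mC.mp (M.H'.le (T _).2))), H.tt, M.H'.tt, sq, mul_assoc,
      k _ _ _ _ (mul_inv_eq_iff_eq_mul.mpr (P.tau_cm (T _).1 (T _).1 (T _).2 (T _).2))]
  have h4 : ∀ r ∈ RB0, ev (gB t w e τ m) r = 1 := by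
    simp only [RB0, List.forall_mem_append]
    exact ⟨⟨⟨h2, h1⟩, h3⟩, hm⟩
  simp only [RB1, List.forall_mem_append]
  exact ⟨⟨h2, der derB0 rfl h4⟩, hm⟩

theorem sqB {gs : List G} (h : ∀ r ∈ RB1, ev gs r = 1) {a : ℕ} (ha : a < 16) : gg gs a * gg gs a = 1 := by
  simpa [ev] using h [a, a] ((by decide : ∀ a < 16, [a, a] ∈ RB1) a ha)

theorem Bas.cases {gs : List G} (B : Bas t Q gs) (H : Hyp t Q φ) {u : List ℕ} (h : ∀ a ∈ u, gg gs a * gg gs a = 1)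
    (hu : ev gs u ∈ Q) {x : ℕ} (hx : x ∈ bs) : ev gs (cw u x) = 1 ∨ ev gs (cw u x ++ [0]) = 1 :=
  (H.cj hu (B.mem x hx)).imp (fun e => (cw_one h (B.sq x hx)).mpr (mul_inv_eq_iff_eq_mul.mp e)) fun e =>
    (cw_mul h (B.sq x hx) (by rw [B.g0, H.tt]) (by rw [B.g0]; exact mC.mp (H.le (B.mem x hx)))).mpr (by rw [e, B.g0])

theorem Fr.tau2 (P : Fr t w Q Q' E φ φ' e) : ∃ τ m, (∀ i, Tau t φ e i (τ i) ∧ τ i ∈ Q') ∧
    ∀ r ∈ RB1 ++ mT, ev (gB t w e τ m) r = 1 := by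
  have M := P.M
  have H := M.H
  obtain ⟨D, τ, T⟩ := P.tau
  obtain ⟨m, mm, hm⟩ := P.exists_m
  have R1 := P.relB T mm (hm τ)
  have B := P.basB τ m
  have R2 := der derB1 rfl R1
  have R3 := List.forall_mem_append.mpr ⟨R1, R2⟩
  have mi := inv_eq_of_mul_eq_one_right mm
  have m1 : m * t * m⁻¹ = w := by
    rw [mi, ← M.H'.ti]; exact eq_inv_of_mul_eq_one_left (by simpa [gB, gl, ev, mul_assoc] using hm τ [12, 0, 12, 1] (by decide))
  have m2 : m * w * m⁻¹ = t := by rw [← m1, mi, ← mul_assoc, ← mul_assoc, mm, one_mul, mul_assoc, mm, mul_one]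
  have sq : ∀ i : Fin 3, ∀ a ∈ [8 + i.1, 12, 5 + i.1, 12], gg (gB t w e τ m) a * gg (gB t w e τ m) a = 1 :=
    fun i a ha => sqB R1 (by simp at ha; omega)
  have aQ : ∀ i : Fin 3, gg (gB t w e τ m) (5 + i) ∈ Q := fun i => B.mem _ (by revert i; decide)
  have ec : ∀ i : Fin 3, ev (gB t w e τ m) [8 + i.1, 12, 5 + i.1, 12] = τ i * (m * gg (gB t w e τ m) (5 + i) * m⁻¹) :=
    fun i => by rw [mi]; fin_cases i <;> simp [gB, gl, ev, mul_assoc]
  have c1 : ∀ i : Fin 3, ∀ x < 5, ev (gB t w e τ m) [8 + i.1, 12, 5 + i.1, 12] * gg (gB t w e τ m) x =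
      gg (gB t w e τ m) x * ev (gB t w e τ m) [8 + i.1, 12, 5 + i.1, 12] := fun i x hx =>
    (cw_one (sq i) (sqB R1 (by omega))).mp (R2 _ ((by decide : ∀ i : Fin 3, ∀ x < 5,
      cw [8 + i.1, 12, 5 + i.1, 12] x ∈ tgC) i x hx))
  have cQ : ∀ i : Fin 3, ev (gB t w e τ m) [8 + i.1, 12, 5 + i.1, 12] ∈ Q := fun i => by
    have h1 := M.H'.link H m2 (ec i ▸ mul_mem (T i).2 (H.link M.H' m1 (aQ i)))
    have h2 := M.H'.link H m2 (B.nfD H (fun a ha => by have := D a ha; interval_cases a <;> exact this) h1 fun a ha => by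
      obtain ⟨x, hx, h⟩ := (by decide : ∀ a ∈ [2, 3, 4, 1], ∃ x < 5, [12, x, 12, a] ∈ RB1) a ha
      have h3 : m * gg (gB t w e τ m) x * m⁻¹ = gg (gB t w e τ m) a := by
        rw [mi, ← inv_eq_of_mul_eq_one_right (sqB R1 (a := a) (by simp at ha; omega))]
        have := R1 _ h
        simp only [ev, mul_one, ← mul_assoc] at this
        exact eq_inv_of_mul_eq_one_left this
      rw [← h3, conj_mul, conj_mul, c1 i x hx])
    rwa [mi, ← mul_assoc, ← mul_assoc, mm, one_mul, mul_assoc, mm, mul_one] at h2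
  have kl : ∀ u v, ([u, v], [0]) ∈ kcB.map Prod.fst → ev (gB t w e τ m) u = 1 → ev (gB t w e τ m) v = 1 → False :=
    fun u v h a b => H.t1 ((mul_one t).symm.trans (cond kcB_ok rfl R3 h (by simp [a, b])))
  have cs := fun (i : Fin 3) x (hx : x ∈ bs) => B.cases H (sq i) (cQ i) hx
  have c2 : ∀ i : Fin 3, ev (gB t w e τ m) (cw [8 + i.1, 12, 5 + i.1, 12] (5 + i)) = 1 ∧
      ev (gB t w e τ m) (cw [8 + i.1, 12, 5 + i.1, 12] 11) = 1 := fun i => by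
    obtain ⟨k1, k2, k3⟩ := (by decide +kernel : ∀ i : Fin 3,
      ([cw [8 + i.1, 12, 5 + i.1, 12] (5 + i), cw [8 + i.1, 12, 5 + i.1, 12] 11 ++ [0]], [0]) ∈ kcB.map Prod.fst ∧
      ([cw [8 + i.1, 12, 5 + i.1, 12] (5 + i) ++ [0], cw [8 + i.1, 12, 5 + i.1, 12] 11], [0]) ∈ kcB.map Prod.fst ∧
      ([cw [8 + i.1, 12, 5 + i.1, 12] (5 + i) ++ [0], cw [8 + i.1, 12, 5 + i.1, 12] 11 ++ [0]], [0]) ∈
        kcB.map Prod.fst) i
    rcases cs i (5 + i) (by revert i; decide) with a | a <;> rcases cs i 11 (by decide) with b | b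
    exacts [⟨a, b⟩, (kl _ _ k1 a b).elim, (kl _ _ k2 a b).elim, (kl _ _ k3 a b).elim]
  have c3 : ∀ i j : Fin 3, ev (gB t w e τ m) (cw [8 + i.1, 12, 5 + i.1, 12] (5 + j)) = 1 := fun i j => by
    by_cases h : i = j
    · exact h ▸ (c2 i).1
    obtain ⟨k1, k2⟩ := (by decide +kernel : ∀ i j : Fin 3, ¬ i = j →
      ([cw [8 + i.1, 12, 5 + i.1, 12] (5 + j) ++ [0], cw [8 + j.1, 12, 5 + j.1, 12] (5 + i)], [0]) ∈ kcB.map Prod.fst ∧
      ([cw [8 + i.1, 12, 5 + i.1, 12] (5 + j) ++ [0], cw [8 + j.1, 12, 5 + j.1, 12] (5 + i) ++ [0]], [0]) ∈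
        kcB.map Prod.fst) i j h
    have k0 : ∀ i : Fin 3, 5 + i.1 ∈ bs := by decide
    exact (cs i _ (k0 j)).resolve_right fun a => (cs j _ (k0 i)).elim (kl _ _ k1 a) (kl _ _ k2 a)
  have c4 : ∀ i : Fin 3, m * gg (gB t w e τ m) (5 + i) * m⁻¹ = τ i ∨ m * gg (gB t w e τ m) (5 + i) * m⁻¹ = τ i * t :=
    fun i => by
    have := B.cen H (cQ i) fun a ha => by
      rcases (by decide : ∀ a ∈ bs, a < 5 ∨ a = 11 ∨ ∃ j : Fin 3, a = 5 + j) a ha with h | rfl | ⟨j, rfl⟩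
      exacts [c1 i a h, (cw_one (sq i) (B.sq _ ha)).mp (c2 i).2, (cw_one (sq i) (B.sq _ ha)).mp (c3 i j)]
    have ti := inv_eq_of_mul_eq_one_right (P.tau_sq (T i).1 (T i).2)
    rw [ec] at this
    exact this.imp (fun h => (eq_inv_of_mul_eq_one_right h).trans ti) fun h => (eq_inv_mul_of_mul_eq h).trans (by rw [ti])
  have T' : ∀ i : Fin 3, Tau t φ e i (m * gg (gB t w e τ m) (5 + i) * m⁻¹) ∧ m * gg (gB t w e τ m) (5 + i) * m⁻¹ ∈ Q' :=
    fun i => ⟨(c4 i).elim (fun h => h ▸ (T i).1) fun h => h ▸ (T i).1.mul_t H P.F, H.link M.H' m1 (aQ i)⟩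
  refine ⟨_, m, T', List.forall_mem_append.mpr ⟨P.relB T' mm (hm _), ?_⟩⟩
  have := fun i => P.tau_sq (T' i).1 (T' i).2
  simp only [mT, List.forall_mem_cons]
  exact ⟨by simpa [gB, gl, ev, mul_assoc, mi] using this 0, by simpa [gB, gl, ev, mul_assoc, mi] using this 1,
    by simpa [gB, gl, ev, mul_assoc, mi] using this 2, by simp⟩

/-- The word of an element of the Sylow 3-subgroup. -/
def xw (k : Fin 3 → ℕ) : List ℕ :=
  (List.replicate (k 0) [8, 13]).flatten ++ (List.replicate (k 1) [9, 14]).flatten ++ (List.replicate (k 2) [10, 15]).flatten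

/-- What is used later. -/
structure Out (t : G) (gs : List G) : Prop where
  len : gs.length = 16
  rel : ∀ r ∈ R, ev gs r = 1
  g0 : gg gs 0 = t
  t1 : t ≠ 1
  card : Nat.card (Ce t) = 110592
  gen : ∀ K : Subgroup G, (∀ a < 16, a ≠ 12 → gg gs a ∈ K) → Ce t ≤ K
  inv : ∀ z ∈ Ce t, z * z = 1 → ∃ k : Fin 3 → ℕ, ∃ u ∈ US, z = ev gs (xw k) * ev gs u * (ev gs (xw k))⁻¹
  nT : ∀ u : List ℕ, (∀ a ∈ u, a ∈ bs) → IsConj t (ev gs u) → ev gs u = t ∨ ∀ i : Fin 3, ∃ k : Fin 3 → ℕ, (∀ j, k j < 3) ∧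
    ∃ v ∈ [[], [0]], ev gs (xw k ++ [8 + i.1] ++ (xw k).reverse ++ u) = ev gs (u ++ v ++ xw k ++ [8 + i.1] ++ (xw k).reverse)

theorem ev_flat (gs : List G) (n : ℕ) (u : List ℕ) : ev gs (List.replicate n u).flatten = ev gs u ^ n := by
  induction n with
  | zero => exact (pow_zero _).symm
  | succ n ih => rw [List.replicate_succ, List.flatten_cons, ev_append, ih, pow_succ']

theorem Fr.out (P : Fr t w Q Q' E φ φ' e) : ∃ gs, Out t gs := by
  have M := P.M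
  have H := M.H
  have F := P.F
  obtain ⟨τ, m, T, R0⟩ := P.tau2
  have R1 := (List.forall_mem_append.mp R0).1
  have R2 : ∀ r ∈ RB2, ev (gB t w e τ m) r = 1 := List.forall_mem_append.mpr ⟨R0, der derB2 rfl R0⟩
  have B := P.basB τ m
  have T1 := fun i => (T i).1
  have sq : ∀ u : List ℕ, (∀ a ∈ u, a < 16) → ∀ a ∈ u, gg (gB t w e τ m) a * gg (gB t w e τ m) a = 1 :=
    fun u h a ha => sqB R1 (h a ha)
  have z1 : ∀ i : Fin 3, ev (gB t w e τ m) [13 + i.1, 12, 13 + i.1, 12, 13 + i.1, 12] = 1 := fun i => by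
    have s := sq [13 + i.1, 12, 13 + i.1, 12, 13 + i.1, 12] (by simp; omega)
    have c : ∀ x < 5, _ * gg (gB t w e τ m) x = gg (gB t w e τ m) x * _ := fun x hx =>
      (cw_one s (sqB R1 (by omega))).mp (R2 _ ((by decide +kernel : ∀ i : Fin 3, ∀ x < 5,
        cw [13 + i.1, 12, 13 + i.1, 12, 13 + i.1, 12] x ∈ RB2) i x hx))
    have zt := mC.mpr (c 0 (by decide))
    obtain ⟨k, hk, h⟩ := Tau.dec T1 H zt fun j => H.cen_sgn M.H' ⟨(T j).2, (T1 j).C⟩ zt (mC.mpr (c 1 (by decide))) (T1 j).sg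
    have k0 : ∀ j, k j = 0 := fun j => by
      by_contra h0
      have h1 := R2 _ ((by decide +kernel : ∀ a < 2, ∀ b < 2, ∀ c < 2, ∀ j : Fin 3, ![a, b, c] j ≠ 0 → cw (List.replicate a 8 ++
        List.replicate b 9 ++ List.replicate c 10) (2 + j) ++ [1] ∈ RB2) _ (hk 0) _ (hk 1) _ (hk 2) j
          (by fin_cases j <;> exact h0))
      have dQ := B.mem (2 + j) ((by decide : ∀ j : Fin 3, 2 + j.1 ∈ bs) j)
      rw [cw_mul (y := 1) (sq _ (by simp; omega)) (sqB R1 (by omega)) M.H'.tt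
        (B.com0 ((by decide : ∀ j : Fin 3, com (2 + j) 1 [] = true) j)), ev_append,
        ev_append, ev_rep, ev_rep, ev_rep] at h1
      have h2 := H.cj h (mul_mem dQ M.wQ)
      have h3 := c (2 + j) (by omega)
      generalize ev (gB t w e τ m) _ = z at h2 h3
      rw [show gg (gB t w e τ m) (2 + j) * w = ex τ k * gg (gB t w e τ m) (2 + j) * (ex τ k)⁻¹ from h1.symm,
        show ∀ x y d : G, x * y⁻¹ * (y * d * y⁻¹) * (x * y⁻¹)⁻¹ = x * d * x⁻¹ from fun x y d => by group, h3,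
        mul_inv_cancel_right, show ex τ k * gg (gB t w e τ m) (2 + j) * (ex τ k)⁻¹ = _ * w from h1, mul_assoc] at h2
      simp only [left_eq_mul] at h2
      exact h2.elim M.H'.t1 fun e => M.ne ((eq_inv_of_mul_eq_one_left e).trans H.ti)
    rw [ex, k0, k0, k0] at h
    obtain ⟨k1, k2⟩ := (by decide +kernel : ∀ i : Fin 3, ([cw [13 + i.1, 12, 13 + i.1, 12, 13 + i.1, 12] 11],
      [13 + i.1, 12, 13 + i.1, 12, 13 + i.1, 12]) ∈ kcZ.map Prod.fst ∧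
        ([cw [13 + i.1, 12, 13 + i.1, 12, 13 + i.1, 12] 11 ++ [0]], [0]) ∈ kcZ.map Prod.fst) i
    exact (B.cases H s (by simpa using h) (x := 11) (by decide)).elim (fun a => cond kcZ_ok rfl R2 k1 (by simp [a]))
      fun a => (H.t1 ((mul_one t).symm.trans (cond kcZ_ok rfl R2 k2 (by simp [a])))).elim
  have tk : ∀ u : List ℕ, (∀ a ∈ u, a < 16) → ev ((gB t w e τ m).take 16) u = ev (gB t w e τ m) u := fun u h =>
    ev_take (by simpa using h)
  have xk : ∀ k, ∀ a ∈ xw k, a < 16 := fun k a ha => by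
    simp only [xw, List.mem_append, List.mem_flatten, List.mem_replicate] at ha
    rcases ha with (⟨_, ⟨-, rfl⟩, h⟩ | ⟨_, ⟨-, rfl⟩, h⟩) | ⟨_, ⟨-, rfl⟩, h⟩ <;> simp at h <;> omega
  have te : ∀ i, τ i * (τ i * e i) = e i := fun i => by rw [← mul_assoc, P.tau_sq (T1 i) (T i).2, one_mul]
  have xe : ∀ k, ev (gB t w e τ m) (xw k) = ex e k := fun k => by
    simp only [xw, ev_append, ev_flat]
    simp [gB, gl, ev, ex, te]
  have xC := fun k => ex_mem F.C k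
  have nS : ∀ z ∈ Ce t, (∀ j, φ z j = 1 ∨ φ z j = φ (τ j) j) → ∃ u ∈ US, z = ev (gB t w e τ m) u := fun z hz h => by
    obtain ⟨k, hk, h⟩ := Tau.dec T1 H hz h
    have := dbl_pow (dbl_pow (dbl_pow (B.nfQ H h) 8 (hk 0)) 9 (hk 1)) 10 (hk 2)
    rwa [mul_assoc, mul_assoc, ← mul_assoc (_ ^ k 0), show gg (gB t w e τ m) 8 ^ k 0 * gg (gB t w e τ m) 9 ^ k 1 *
      gg (gB t w e τ m) 10 ^ k 2 = ex τ k from rfl, inv_mul_cancel_right] at this
  have uS : ∀ u ∈ US, ∀ a ∈ u, a < 12 := by decide +kernel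
  refine ⟨(gB t w e τ m).take 16, rfl, fun r hr => ?_, rfl, H.t1, H.card_C, fun K hK z hz => ?_, fun z hz zz => ?_,
    fun u hu h => ?_⟩
  · obtain ⟨h1, h2⟩ := (by decide +kernel : ∀ r ∈ R, (∀ a ∈ r, a < 16) ∧
      (r ∈ RB2 ∨ ∃ i : Fin 3, [13 + i.1, 12, 13 + i.1, 12, 13 + i.1, 12] = r)) r hr
    rw [tk r h1]
    rcases h2 with h | ⟨i, rfl⟩
    exacts [R2 r h, z1 i]
  · obtain ⟨k, -, hk⟩ := F.pick H (p := fun j c => φ z j * c = 1 ∨ φ z j * c = φ (τ j) j) fun j c =>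
      (by decide +kernel : ∀ σ s c : S3, Perm.sign s = -1 → c ^ 3 = 1 → c ≠ 1 → ∃ k < 3, σ * c ^ k = 1 ∨ σ * c ^ k = s)
        _ _ c (T1 j).sg
    obtain ⟨u, hu, h⟩ := nS _ (mul_mem hz (xC k)) fun j => by rw [H.φ_mul hz (xC k)]; exact hk j
    refine (mul_mem_cancel_right (ex_mem (fun i => ?_) k)).mp (h ▸ tk u (fun a ha => by have := uS u hu a ha; omega) ▸
      ev_mem' fun a ha => hK a (by have := uS u hu a ha; omega) (by have := uS u hu a ha; omega))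
    rw [← te]
    fin_cases i
    exacts [mul_mem (hK 8 (by decide) (by decide)) (hK 13 (by decide) (by decide)),
      mul_mem (hK 9 (by decide) (by decide)) (hK 14 (by decide) (by decide)),
      mul_mem (hK 10 (by decide) (by decide)) (hK 15 (by decide) (by decide))]
  · obtain ⟨k, -, hk⟩ := F.pick H (p := fun j c => c⁻¹ * φ z j * c = 1 ∨ c⁻¹ * φ z j * c = φ (τ j) j) fun j c =>
      (by decide +kernel : ∀ σ s c : S3, σ * σ = 1 → Perm.sign s = -1 → c ^ 3 = 1 → c ≠ 1 →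
        ∃ k < 3, (c ^ k)⁻¹ * σ * c ^ k = 1 ∨ (c ^ k)⁻¹ * σ * c ^ k = s)
        _ _ c (by rw [← Pi.mul_apply, ← H.φ_mul hz hz, zz, H.φ_one]; rfl) (T1 j).sg
    obtain ⟨u, hu, h⟩ := nS _ (mul_mem (mul_mem (inv_mem (xC k)) hz) (xC k)) fun j => by
      rw [H.φ_mul (mul_mem (inv_mem (xC k)) hz) (xC k), H.φ_mul (inv_mem (xC k)) hz, H.φ_inv (xC k)]; exact hk j
    exact ⟨k, u, hu, by rw [tk _ (xk k), tk u (fun a ha => by have := uS u hu a ha; omega), xe, ← h]; group⟩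
  have u16 : ∀ a ∈ u, a < 16 := fun a ha => (by decide : ∀ a ∈ bs, a < 16) a (hu a ha)
  rw [tk u u16] at h ⊢
  refine or_iff_not_imp_left.mpr fun ne i => ?_
  have uQ : ev (gB t w e τ m) u ∈ Q := ev_mem' fun a ha => B.mem a (hu a ha)
  obtain ⟨Q1, φ1, H1⟩ := H.exists_conj h
  obtain ⟨b, hb, h1, h2⟩ := Mp.one ⟨H, H1, uQ, ne⟩ i
  have b2 : b ∈ Ce t := hb.2
  obtain ⟨k, k3, hk⟩ := F.pick H (p := fun j c => c * φ (τ i) j * c⁻¹ = φ b j) fun j c c3 c1 => by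
    by_cases a : j = i
    · subst a
      exact (by decide +kernel : ∀ σ s c : S3, Perm.sign σ = -1 → Perm.sign s = -1 → c ^ 3 = 1 → c ≠ 1 →
        ∃ k < 3, c ^ k * s * (c ^ k)⁻¹ = σ) _ _ c h1 (T1 j).sg c3 c1
    · exact ⟨0, by decide, by rw [h2 j a, (T1 i).φ1 j a]; simp⟩
  have lC := mul_mem (mul_mem (xC k) (T1 i).C) (inv_mem (xC k))
  have h3 := H.mdq (H.mem_of_eq lC b2 (funext fun j => by
    rw [H.φ_mul (mul_mem (xC k) (T1 i).C) (inv_mem (xC k)), H.φ_mul (xC k) (T1 i).C, H.φ_inv (xC k)]; exact hk j)) uQ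
    (.inl (mul_inv_eq_iff_eq_mul.mpr (mC.mp (H1.le hb.1))))
  rw [show ∀ x y d : G, x * y⁻¹ * (y * d * y⁻¹) * (x * y⁻¹)⁻¹ = x * d * x⁻¹ from fun x y d => by group,
    mul_inv_eq_iff_eq_mul, mul_inv_eq_iff_eq_mul] at h3
  have h4 : ∀ v ∈ [[], [0]], ev ((gB t w e τ m).take 16) (xw k ++ [8 + i.1] ++ (xw k).reverse ++ u) =
      ev ((gB t w e τ m).take 16) (u ++ v ++ xw k ++ [8 + i.1] ++ (xw k).reverse) ↔ ex e k * τ i * (ex e k)⁻¹ *
        ev (gB t w e τ m) u = ev (gB t w e τ m) u * ev (gB t w e τ m) v * (ex e k * τ i * (ex e k)⁻¹) := fun v hv => by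
    simp only [ev_append]
    rw [tk u u16, tk _ (xk k), tk _ fun a ha => xk k a (List.mem_reverse.mp ha), tk v (by revert v; decide),
      ev_rev (sq _ (xk k)), xe, show ev _ [8 + i.1] = τ i by fin_cases i <;> exact mul_one _]
    simp only [mul_assoc]
  refine ⟨k, k3, h3.elim (fun a => ⟨[], by simp, (h4 _ (by simp)).mpr (by rwa [ev, mul_one])⟩) fun a =>
    ⟨[0], by simp, (h4 _ (by simp)).mpr (by rwa [show ev (gB t w e τ m) [0] = t from mul_one t])⟩⟩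

end Cfsg.Agent.O8
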