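import Cfsg.Agent.M12C.Gen2
import Cfsg.Agent.G23.Loc2

/-! Involution centralizers of shape `2^(1+8).(S₃ × S₃ × S₃)`: first consequences. -/

set_option autoImplicit false
set_option linter.unusedSectionVars false

namespace Cfsg.Agent.O8

open Subgroup Cfsg.Agent.Local Equiv

variable {G : Type*} [Group G] [Finite G]

/-- The symmetric group of degree three. -/
abbrev S3 := Perm (Fin 3)

/-- The centralizer of an element. -/
abbrev Ce (t : G) : Subgroup G := centralizer {t}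

theorem mC {t x : G} : x ∈ Ce t ↔ x * t = t * x := mem_centralizer_singleton_iff

/-- The standing hypothesis. -/
structure Hyp (t : G) (Q : Subgroup G) (φ : G → Fin 3 → S3) : Prop where
  tt : t * t = 1
  t1 : t ≠ 1
  tQ : t ∈ Q
  le : Q ≤ Ce t
  cm : ∀ p ∈ Q, ∀ q ∈ Q, p * q = q * p ∨ p * q = q * p * t
  sq : ∀ p ∈ Q, p * p = 1 ∨ p * p = t
  cen : ∀ p ∈ Q, (∀ q ∈ Q, p * q = q * p) → p = 1 ∨ p = t
  card : Nat.card Q = 512
  mul : ∀ x ∈ Ce t, ∀ y ∈ Ce t, φ (x * y) = φ x * φ y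
  ker : ∀ x ∈ Ce t, φ x = 1 ↔ x ∈ Q
  surj : ∀ σ, ∃ x ∈ Ce t, φ x = σ

theorem half {H : Subgroup G} {a x : G} (hx : x ∈ H) (h : x * a ≠ a * x) :
    2 * Nat.card ↥(H ⊓ Ce a) ≤ Nat.card H := by
  have h1 := card_mul_relIndex (inf_le_left : H ⊓ Ce a ≤ H)
  have h2 : (H ⊓ Ce a).relIndex H ≠ 1 := fun e => h (mC.mp (relIndex_eq_one.mp e hx).2)
  have h3 : (H ⊓ Ce a).relIndex H ≠ 0 := fun e => by
    rw [e, mul_zero] at h1; exact Nat.card_pos.ne h1
  rw [← h1, mul_comm]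
  exact Nat.mul_le_mul_left _ (by omega)

namespace Hyp

variable {t u : G} {Q Q' : Subgroup G} {φ φ' : G → Fin 3 → S3}

/-- The quotient map as a homomorphism. -/
def π (H : Hyp t Q φ) : Ce t →* (Fin 3 → S3) := MonoidHom.mk' (fun x => φ x) fun x y => H.mul x x.2 y y.2

theorem φ_one (H : Hyp t Q φ) : φ 1 = 1 := H.π.map_one

theorem φ_inv (H : Hyp t Q φ) {x : G} (hx : x ∈ Ce t) : φ x⁻¹ = (φ x)⁻¹ := H.π.map_inv ⟨x, hx⟩

theorem φ_pow (H : Hyp t Q φ) {x : G} (hx : x ∈ Ce t) (n : ℕ) : φ (x ^ n) = φ x ^ n := H.π.map_pow ⟨x, hx⟩ n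

theorem φ_mul (H : Hyp t Q φ) {x y : G} (hx : x ∈ Ce t) (hy : y ∈ Ce t) : φ (x * y) = φ x * φ y := H.mul x hx y hy

theorem φ_Q (H : Hyp t Q φ) {x : G} (hx : x ∈ Q) : φ x = 1 := (H.ker x (H.le hx)).mpr hx

theorem ti (H : Hyp t Q φ) : t⁻¹ = t := inv_eq_of_mul_eq_one_right H.tt

theorem tC (_ : Hyp t Q φ) : t ∈ Ce t := mC.mpr rfl

theorem nrm (H : Hyp t Q φ) {x q : G} (hx : x ∈ Ce t) (hq : q ∈ Q) : x * q * x⁻¹ ∈ Q := by
  rw [← H.ker _ (mul_mem (mul_mem hx (H.le hq)) (inv_mem hx)), H.φ_mul (mul_mem hx (H.le hq)) (inv_mem hx),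
    H.φ_mul hx (H.le hq), H.φ_inv hx, H.φ_Q hq, mul_one, mul_inv_cancel]

theorem nrm' (H : Hyp t Q φ) {x q : G} (hx : x ∈ Ce t) (hq : q ∈ Q) : x⁻¹ * q * x ∈ Q := by
  simpa using H.nrm (inv_mem hx) hq

theorem mem_of_eq (H : Hyp t Q φ) {x y : G} (hx : x ∈ Ce t) (hy : y ∈ Ce t) (h : φ x = φ y) : x * y⁻¹ ∈ Q := by
  rw [← H.ker _ (mul_mem hx (inv_mem hy)), H.φ_mul hx (inv_mem hy), H.φ_inv hy, h, mul_inv_cancel]

theorem pow4 (H : Hyp t Q φ) {q : G} (hq : q ∈ Q) : q ^ 4 = 1 := by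
  rw [show q ^ 4 = q * q * (q * q) by simp [pow_succ, mul_assoc]]
  rcases H.sq q hq with e | e <;> rw [e]
  exacts [one_mul _, H.tt]

theorem cj (H : Hyp t Q φ) {p q : G} (hp : p ∈ Q) (hq : q ∈ Q) : p * q * p⁻¹ = q ∨ p * q * p⁻¹ = q * t := by
  refine (H.cm p hp q hq).imp (fun e => mul_inv_eq_iff_eq_mul.mpr e) fun e => mul_inv_eq_iff_eq_mul.mpr ?_
  rw [e, mul_assoc, mul_assoc, mC.mp (H.le hp)]

theorem map (H : Hyp t Q φ) (f : G ≃* G) : Hyp (f t) (Q.comap f.symm.toMonoidHom) fun x => φ (f.symm x) := by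
  have h1 : ∀ x, x ∈ Ce (f t) ↔ f.symm x ∈ Ce t := fun x => by
    rw [mC, mC, ← f.symm.apply_eq_iff_eq]; simp
  have h2 : ∀ a b, f.symm a = b → a = f b := fun a b e => f.symm_apply_eq.mp e
  refine ⟨by rw [← map_mul, H.tt, map_one], by simpa using H.t1, by simpa using H.tQ, fun x hx => (h1 x).mpr (H.le hx),
    fun p hp q hq => (H.cm _ hp _ hq).imp (fun e => f.symm.injective (by simpa using e))
      fun e => f.symm.injective (by simpa using e),
    fun p hp => (H.sq _ hp).imp (fun e => f.symm.injective (by simpa using e)) fun e => h2 _ _ (by simpa using e),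
    fun p hp h => (H.cen _ hp fun q hq => f.injective (by simpa using h (f q) (by simpa using hq))).imp
      (fun e => f.symm.injective (by simpa using e)) (h2 _ _), ?_,
    fun x hx y hy => by rw [map_mul, H.mul _ ((h1 x).mp hx) _ ((h1 y).mp hy)], fun x hx => H.ker _ ((h1 x).mp hx),
    fun σ => ?_⟩
  · rw [← H.card, ← card_map_of_injective (f := f.symm.toMonoidHom) f.symm.injective,
      map_comap_eq_self_of_surjective f.symm.surjective]
  · obtain ⟨x, hx, e⟩ := H.surj σ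
    exact ⟨f x, (h1 _).mpr (by simpa using hx), by simpa using e⟩

theorem uniq (H : Hyp t Q φ) (H' : Hyp t Q' φ') : Q' ≤ Q := fun q hq => by
  rw [← H.ker q (H'.le hq)]
  funext i
  refine (by decide +kernel : ∀ σ : S3, σ ^ 4 = 1 → (∀ τ : S3, (τ * σ * τ⁻¹ * σ) ^ 4 = 1) → σ = 1) _
    (by rw [← Pi.pow_apply, ← H.φ_pow (H'.le hq), H'.pow4 hq, H.φ_one]; rfl) fun τ => ?_
  obtain ⟨x, hx, e⟩ := H.surj fun _ => τ
  have h1 := H'.nrm hx hq
  have := congrFun (H.φ_pow (H'.le (mul_mem h1 hq)) 4) i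
  rw [H'.pow4 (mul_mem h1 hq), H.φ_one, H.φ_mul (H'.le h1) (H'.le hq), H.φ_mul (mul_mem hx (H'.le hq)) (inv_mem hx),
    H.φ_mul hx (H'.le hq), H.φ_inv hx, e] at this
  exact this.symm

theorem link (H : Hyp t Q φ) (H' : Hyp u Q' φ') {h q : G} (e : h * t * h⁻¹ = u) (hq : q ∈ Q) : h * q * h⁻¹ ∈ Q' := by
  subst e
  exact H'.uniq (H.map (MulAut.conj h)) (by simpa [mul_assoc] using hq)

theorem exists_conj (H : Hyp t Q φ) (h : IsConj t u) : ∃ Q' φ', Hyp u Q' φ' := by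
  obtain ⟨g, rfl⟩ := isConj_iff.mp h
  exact ⟨_, _, H.map (MulAut.conj g)⟩

theorem perp (H : Hyp t Q φ) {A : Subgroup G} (hA : A ≤ Q) :
    Nat.card A * Nat.card ↥(Q ⊓ centralizer A) ≤ 1024 := by
  classical
  have := Fintype.ofFinite G
  let χ : G → G → ℤ := fun a q => if a * q = q * a then 1 else -1
  have m1 : ∀ a ∈ Q, ∀ p ∈ Q, ∀ q ∈ Q, χ a (p * q) = χ a p * χ a q := fun a ha p hp q hq => by
    have c1 := mC.mp (H.le hq)
    have n : ∀ x : G, x * t ≠ x := fun x e => H.t1 (by simpa using e)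
    have k := H.tt
    rcases H.cm a ha p hp with e | e <;> rcases H.cm a ha q hq with e' | e'
    · simp [χ, e, e', ← mul_assoc, show p * a * q = p * q * a by rw [mul_assoc, e', mul_assoc]]
    · simp [χ, e, e', n, show a * (p * q) = p * q * a * t by rw [← mul_assoc, e, mul_assoc, e']; group]
    · simp [χ, e, e', n, show a * (p * q) = p * q * a * t by
        rw [← mul_assoc, e, mul_assoc, ← c1, ← mul_assoc, mul_assoc p, e']; group]
    · simp [χ, e, e', n, show a * (p * q) = p * q * a by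
        rw [← mul_assoc, e, mul_assoc, ← c1, ← mul_assoc, mul_assoc p, e', ← mul_assoc, mul_assoc _ t, k]; group]
  have m2 : ∀ a q, χ a q = χ q a := fun a q => by simp only [χ, eq_comm]
  let f : A → Q →* ℤ := fun a =>
    { toFun := fun q => χ a q, map_one' := by simp [χ], map_mul' := fun p q => m1 a (hA a.2) p p.2 q q.2 }
  let g : Q → A →* ℤ := fun q =>
    { toFun := fun a => χ q a, map_one' := by simp [χ], map_mul' := fun a b => m1 q q.2 a (hA a.2) b (hA b.2) }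
  have h1 : ∑ a : A, ∑ q : Q, f a q = ∑ q : Q, ∑ a : A, g q a :=
    Finset.sum_comm.trans (Finset.sum_congr rfl fun q _ => Finset.sum_congr rfl fun a _ => m2 _ _)
  simp only [sum_hom_units, Nat.cast_ite, Nat.cast_zero, ← Finset.sum_filter, Finset.sum_const, nsmul_eq_mul,
    ← Nat.card_eq_fintype_card, H.card] at h1
  have h2 : (Finset.univ.filter fun a => f a = 1).card ≤ 2 := by
    refine (Finset.card_le_card_of_injOn (t := {1, t}) (fun a : A => a.1) (fun a ha => ?_)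
      Subtype.val_injective.injOn).trans Finset.card_le_two
    have := H.cen a (hA a.2) fun q hq => by
      have := DFunLike.congr_fun (Finset.mem_filter.mp ha).2 ⟨q, hq⟩
      by_contra e
      simp [f, χ, e] at this
    simpa using this
  have h3 : Nat.card ↥(Q ⊓ centralizer A) ≤ (Finset.univ.filter fun q => g q = 1).card := by
    rw [← Fintype.card_coe, ← Nat.card_eq_fintype_card]
    refine Nat.card_le_card_of_injective (fun x => ⟨⟨x.1, x.2.1⟩, Finset.mem_filter.mpr ⟨Finset.mem_univ _,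
      MonoidHom.ext fun a => ?_⟩⟩) fun x y e => Subtype.ext (congrArg (·.1.1) e)
    simp [g, χ, x.2.2 a a.2]
  have h4 : (Finset.univ.filter fun a => f a = 1).card * 512 = (Finset.univ.filter fun q => g q = 1).card * Nat.card A := by
    exact_mod_cast h1
  nlinarith

theorem ab_le (H : Hyp t Q φ) {A : Subgroup G} (hA : A ≤ Q) (h : ∀ a ∈ A, ∀ b ∈ A, a * b = b * a) :
    Nat.card A ≤ 32 := by
  have h1 := H.perp hA
  have h2 : Nat.card A ≤ Nat.card ↥(Q ⊓ centralizer A) := card_le_of_le fun a ha => ⟨hA ha, fun b hb => h b hb a ha⟩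
  nlinarith

theorem ab_max (H : Hyp t Q φ) {A : Subgroup G} (hA : A ≤ Q) (h : ∀ a ∈ A, ∀ b ∈ A, a * b = b * a)
    (hc : 32 ≤ Nat.card A) {x : G} (hx : x ∈ Q) (hx' : ∀ a ∈ A, a * x = x * a) : x ∈ A := by
  have h1 := H.perp hA
  have h2 : A ≤ Q ⊓ centralizer A := fun a ha => ⟨hA ha, fun b hb => h b hb a ha⟩
  exact (eq_of_le_of_card_ge h2 (by nlinarith)).ge ⟨hx, hx'⟩

theorem dbl (H : Hyp t Q φ) {R : Subgroup G} (hR : R ≤ Q) {a : G} (ha : a ∈ Q) :
    Nat.card R ≤ 2 * Nat.card ↥(R ⊓ Ce a) := by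
  rw [← M11.card_inf_centralizer_mul R a, mul_comm]
  refine Nat.mul_le_mul_right _ ((Set.ncard_le_ncard (t := {a, a * t}) ?_).trans (Set.ncard_insert_le _ _ |>.trans (by simp)))
  rintro _ ⟨r, hr, rfl⟩
  exact H.cj (hR hr) ha

theorem two (H : Hyp t Q φ) {R : Subgroup G} (hR : R ≤ Ce t) (h4 : ∀ x ∈ R, x ^ 4 = 1) {x : G} (hx : x ∈ R) (i : Fin 3) :
    φ x i * φ x i = 1 :=
  (by decide : ∀ σ : S3, σ ^ 4 = 1 → σ * σ = 1) _ (by rw [← Pi.pow_apply, ← H.φ_pow (hR hx), h4 x hx, H.φ_one]; rfl)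

theorem sq_mem (H : Hyp t Q φ) {R : Subgroup G} (hR : R ≤ Ce t) (h4 : ∀ x ∈ R, x ^ 4 = 1) {x : G} (hx : x ∈ R) :
    x * x ∈ Q := by
  rw [← H.ker _ (hR (mul_mem hx hx)), H.φ_mul (hR hx) (hR hx)]
  exact funext (H.two hR h4 hx)

theorem even_mem (H : Hyp t Q φ) {R : Subgroup G} (hR : R ≤ Ce t) (h4 : ∀ x ∈ R, x ^ 4 = 1) {x : G} (hx : x ∈ R)
    (h : ∀ i, Perm.sign (φ x i) = 1) : x ∈ Q :=
  (H.ker _ (hR hx)).mp (funext fun i =>
    (by decide : ∀ σ : S3, σ * σ = 1 → Perm.sign σ = 1 → σ = 1) _ (H.two hR h4 hx i) (h i))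

theorem cm_mem (H : Hyp t Q φ) {R : Subgroup G} (hR : R ≤ Ce t) (h4 : ∀ x ∈ R, x ^ 4 = 1) {x y : G} (hx : x ∈ R)
    (hy : y ∈ R) : x * y * x⁻¹ * y⁻¹ ∈ Q :=
  H.even_mem hR h4 (mul_mem (mul_mem (mul_mem hx hy) (inv_mem hx)) (inv_mem hy)) fun i => by
    have a := hR hx
    have b := hR hy
    simp (maxDischargeDepth := 9) only [H.φ_mul, H.φ_inv, mul_mem, inv_mem, a, b, Pi.mul_apply, Pi.inv_apply,
      map_mul, Perm.sign_inv]
    rw [mul_right_comm (Perm.sign (φ x i)), Int.units_mul_self, one_mul, Int.units_mul_self]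

theorem eight (H : Hyp t Q φ) {R : Subgroup G} (hR : R ≤ Ce t) (h4 : ∀ x ∈ R, x ^ 4 = 1) :
    Nat.card R ≤ 8 * Nat.card ↥(R ⊓ Q) ∧ (8 * Nat.card ↥(R ⊓ Q) ≤ Nat.card R →
      ∀ s : Fin 3 → ℤˣ, ∃ b ∈ R, ∀ i, Perm.sign (φ b i) = s i) := by
  let ψ : R →* (Fin 3 → ℤˣ) := (Perm.sign.compLeft (Fin 3)).comp (H.π.comp (inclusion hR))
  have h1 := card_eq_card_quotient_mul_card_subgroup ψ.ker
  rw [Nat.card_congr (QuotientGroup.quotientKerEquivRange ψ).toEquiv] at h1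
  have h2 : Nat.card ψ.ker ≤ Nat.card ↥(R ⊓ Q) := Nat.card_le_card_of_injective
    (fun x => ⟨x.1.1, x.1.2, H.even_mem hR h4 x.1.2 (congrFun x.2)⟩)
    fun x y e => Subtype.ext (Subtype.ext (congrArg (·.1) e))
  have h3 : Nat.card (Fin 3 → ℤˣ) = 8 := by simp
  have h5 := card_le_card_group ψ.range
  refine ⟨h1 ▸ Nat.mul_le_mul (h3 ▸ h5) h2, fun h s => ?_⟩
  have h6 : 0 < Nat.card ψ.ker := Nat.card_pos
  obtain ⟨b, hb⟩ := (eq_top_of_le_card ψ.range (by nlinarith)).ge (mem_top s)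
  exact ⟨b, b.2, congrFun hb⟩

end Hyp

end Cfsg.Agent.O8
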