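import Cfsg.Agent.O8.Hyp

/-! The involution is not weakly closed in the extraspecial group. -/

set_option autoImplicit false
set_option linter.unusedSectionVars false

namespace Cfsg.Agent.O8

open Subgroup Cfsg.Agent.Local Equiv

variable {G : Type*} [Group G] [Finite G] {t u : G} {Q Q' : Subgroup G} {φ φ' : G → Fin 3 → S3}

theorem ab_closure {s : Set G} (h : ∀ a ∈ s, ∀ b ∈ s, a * b = b * a) :
    ∀ a ∈ closure s, ∀ b ∈ closure s, a * b = b * a := fun _ ha b hb =>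
  (closure_le_centralizer_centralizer s ha b ((closure_le (centralizer s)).mpr (fun x hx y hy => h y hy x hx) hb)).symm

theorem exists_notMem {D : Subgroup G} {l : List G} (h : l.length < Nat.card D) : ∃ d ∈ D, d ∉ l := by
  classical
  by_contra! e
  have := Set.ncard_le_ncard (s := D) (t := (l.toFinset : Set G)) fun a ha => by simpa using e a ha
  rw [Set.ncard_coe_finset, M11.ncard_coe] at this
  exact absurd (this.trans l.toFinset_card_le) (by omega)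

theorem Hyp.cm_mul (H : Hyp t Q φ) {c p q : G} (hc : c ∈ Q) (hp : p ∈ Q) (hq : q ∈ Q)
    (h : c * p = p * c ↔ c * q = q * c) : c * (p * q) = p * q * c := by
  by_cases e : c * p = p * c
  · rw [← mul_assoc, e, mul_assoc, h.mp e, mul_assoc]
  · rw [← mul_assoc, (H.cm c hc p hp).resolve_left e, mul_assoc, ← mC.mp (H.le hq), ← mul_assoc, mul_assoc p,
      (H.cm c hc q hq).resolve_left fun e' => e (h.mpr e'), ← mul_assoc, mul_assoc _ t, H.tt, mul_one, mul_assoc]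

theorem Hyp.inv_eq (H : Hyp t Q φ) {n : G} (hn : n ∈ Q) : n⁻¹ = n ∨ n⁻¹ = n * t :=
  (H.sq n hn).imp inv_eq_of_mul_eq_one_right fun e => inv_eq_of_mul_eq_one_right (by rw [← mul_assoc, e, H.tt])

theorem Hyp.cen_sgn (H : Hyp t Q φ) (H' : Hyp u Q' φ') {b x : G} (hb : b ∈ Q' ⊓ Ce t) (h1 : x ∈ Ce t) (h2 : x ∈ Ce u)
    {i : Fin 3} (hs : Perm.sign (φ b i) = -1) : φ x i = 1 ∨ φ x i = φ b i := by
  have b2 : b ∈ Ce t := hb.2
  have := H.two inf_le_right (fun x hx => H'.pow4 hx.1)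
    (mul_mem (mem_inf.mpr ⟨H'.nrm h2 hb.1, mul_mem (mul_mem h1 b2) (inv_mem h1)⟩) hb) i
  simp (maxDischargeDepth := 9) only [H.φ_mul, H.φ_inv, mul_mem, inv_mem, h1, b2] at this
  exact (by decide +kernel : ∀ σ s : S3, Perm.sign s = -1 → σ * s * σ⁻¹ * s * (σ * s * σ⁻¹ * s) = 1 → σ = 1 ∨ σ = s)
    _ _ hs this

/-- A commuting pair of conjugates, both weakly closed. -/
structure Pr (t u : G) (Q Q' : Subgroup G) (φ φ' : G → Fin 3 → S3) : Prop where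
  H : Hyp t Q φ
  H' : Hyp u Q' φ'
  cm : u * t = t * u
  ne : u ≠ t
  cj : IsConj t u
  w : ∀ z, IsConj t z → z ∈ Q → z = t
  w' : ∀ z, IsConj t z → z ∈ Q' → z = u

/-- A commutator. -/
def ν (u y : G) : G := u * (y⁻¹ * u * y)

namespace Pr

theorem symm (P : Pr t u Q Q' φ φ') : Pr u t Q' Q φ' φ :=
  ⟨P.H', P.H, P.cm.symm, P.ne.symm, P.cj.symm, fun z h => P.w' z (P.cj.trans h), fun z h => P.w z (P.cj.trans h)⟩

theorem side (P : Pr t u Q Q' φ φ') : Nat.card ↥(Q ⊓ Ce u) = 32 ∧ Nat.card ↥(Q ⊓ Ce u ⊓ Q') ≤ 4 ∧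
    (∀ c ∈ Q, u * c * (u * c) = 1 → ∃ y ∈ Q, c = ν u y ∨ c = ν u y * t) ∧ (∀ y ∈ Q, ν u y ∈ Ce u) ∧
      16 ≤ {w | ∃ r ∈ Q, r * u * r⁻¹ = w}.ncard := by
  have H := P.H
  have uu := P.H'.tt
  have ui := P.H'.ti
  have uC : u ∈ Ce t := mC.mpr P.cm
  have tQ : t ∉ Q' := fun e => P.ne (P.w' t (IsConj.refl t) e).symm
  have h4 : ∀ x ∈ Q ⊓ Ce u, x ^ 4 = 1 := fun x hx => H.pow4 hx.1
  have ab : ∀ a ∈ Q ⊓ Ce u, ∀ b ∈ Q ⊓ Ce u, a * b = b * a := fun a ha b hb =>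
    (H.cm a ha.1 b hb.1).resolve_right fun e => tQ (by
      convert P.H'.cm_mem inf_le_right h4 (inv_mem ha) (inv_mem hb) using 1
      rw [inv_inv, inv_inv, mul_assoc, e]; group)
  have nQ : ∀ y ∈ Q, ν u y ∈ Q := fun y hy => by
    convert mul_mem (H.nrm uC (inv_mem hy)) hy using 1
    rw [ui, ν]; group
  have un : ∀ y, u * ν u y = y⁻¹ * u * y := fun y => by rw [ν, ← mul_assoc, uu, one_mul]
  have nD : ∀ y, ν u y ∈ Q' → ν u y = 1 := fun y h => by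
    have := P.w' _ (P.cj.trans (isConj_iff.mpr ⟨y⁻¹, by rw [inv_inv, un]⟩)) (mul_mem P.H'.tQ h)
    simpa using this
  have nm : ∀ y z, ν u (y * z) = ν u z * (z⁻¹ * ν u y * z) := fun y z => by
    calc _ = u * (z⁻¹ * (u * u) * y⁻¹ * u * y * z) := by rw [uu, ν]; group
      _ = _ := by rw [ν, ν]; group
  have dv : ∀ y z, (ν u y)⁻¹ * ν u z = y⁻¹ * ν u (z * y⁻¹) * y := fun y z => by
    rw [inv_mul_eq_iff_eq_mul, ← nm, inv_mul_cancel_right]
  have ninv : ∀ y, u⁻¹ * ν u y * u = (ν u y)⁻¹ := fun y => by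
    rw [ν, mul_inv_rev, mul_inv_rev, mul_inv_rev, ui, inv_inv, ← mul_assoc u u, uu]; group
  have c1 : ∀ c ∈ Q, (u⁻¹ * c * u = c ∨ u⁻¹ * c * u = c * t) → ∀ y ∈ Q, c * ν u y = ν u y * c := fun c hc h y hy => by
    rw [show ν u y = u * y⁻¹ * u⁻¹ * y by rw [ui, ν]; group]
    refine H.cm_mul hc (H.nrm uC (inv_mem hy)) hy ?_
    have e1 : c * (u * y⁻¹ * u⁻¹) = u * y⁻¹ * u⁻¹ * c ↔ u⁻¹ * c * u * y = y * (u⁻¹ * c * u) :=
      ⟨fun e => by
        calc _ = y * u⁻¹ * (u * y⁻¹ * u⁻¹ * c) * u * y := by group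
          _ = _ := by rw [← e]; group, fun e => by
        calc _ = u * y⁻¹ * (y * (u⁻¹ * c * u)) * y⁻¹ * u⁻¹ := by group
          _ = _ := by rw [← e]; group⟩
    rw [e1]
    rcases h with e | e <;> rw [e]
    rw [mul_assoc, ← mC.mp (H.le hy), ← mul_assoc, ← mul_assoc, mul_left_inj]
  have hO := M11.card_inf_centralizer_mul Q u
  have hA := H.ab_le inf_le_left ab
  have h8 := (P.H'.eight inf_le_right h4).1
  have hN : ∀ w : {w | ∃ r ∈ Q, r * u * r⁻¹ = w}, ∃ y ∈ Q, ν u y = u * w := fun ⟨_, r, hr, e⟩ =>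
    ⟨r⁻¹, inv_mem hr, by rw [ν, inv_inv]; exact congrArg _ e⟩
  rw [← Nat.card_coe_set_eq, H.card] at *
  generalize {w | ∃ r ∈ Q, r * u * r⁻¹ = w} = O at *
  choose y hy hy' using hN
  have yi : ∀ v w, ν u (y v) = ν u (y w) → v = w := fun v w e => Subtype.ext (mul_left_cancel ((hy' v).symm.trans
    (e.trans (hy' w))))
  have nt : ∀ y ∈ Q, ν u y ≠ t := fun y0 h0 e0 => by
    have h1 := H.ab_le (A := closure ((Q ⊓ Ce u : Subgroup G) ∪ ν u '' Q))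
      ((closure_le Q).mpr (Set.union_subset inf_le_left (by rintro _ ⟨y, hy, rfl⟩; exact nQ y hy))) (ab_closure (by
        have k : ∀ a ∈ Q ⊓ Ce u, ∀ y ∈ Q, a * ν u y = ν u y * a := fun a ha =>
          c1 a ha.1 (.inl (by rw [mul_assoc, mC.mp ha.2, inv_mul_cancel_left]))
        rintro a (ha | ⟨y, hy, rfl⟩) b (hb | ⟨z, hz, rfl⟩)
        exacts [ab a ha b hb, k a ha z hz, (k b hb y hy).symm, c1 _ (nQ y hy) (ninv y ▸ H.inv_eq (nQ y hy)) z hz]))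
    have h2 := Nat.card_le_card_of_injective (fun p : O × ↥(Q ⊓ Ce u ⊓ Q') => (⟨ν u (y p.1) * p.2,
      mul_mem (subset_closure (.inr ⟨_, hy _, rfl⟩)) (subset_closure (.inl p.2.2.1))⟩ :
        closure (((Q ⊓ Ce u : Subgroup G) : Set G) ∪ ν u '' Q))) fun p q e => by
      have e1 : ν u (y p.1) * p.2 = ν u (y q.1) * q.2 := congrArg Subtype.val e
      have e2 : (ν u (y p.1))⁻¹ * ν u (y q.1) ∈ Q' := by
        rw [show (ν u (y p.1))⁻¹ * ν u (y q.1) = p.2.1 * q.2.1⁻¹ by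
          rw [inv_mul_eq_iff_eq_mul, ← mul_assoc, e1, mul_inv_cancel_right]]
        exact mul_mem p.2.2.2 (inv_mem q.2.2.2)
      have e3 : ν u (y p.1) = ν u (y q.1) := by
        rw [← inv_mul_eq_one]
        have := H.cj (inv_mem (hy p.1)) (nQ _ (mul_mem (hy q.1) (inv_mem (hy p.1))))
        rw [inv_inv, ← dv] at this
        rcases this with e | e <;> rw [e] at e2 ⊢
        · exact nD _ e2
        · have k : ν u (y0 * (y q.1 * (y p.1)⁻¹)) = ν u (y q.1 * (y p.1)⁻¹) * t := by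
            rw [nm y0, e0, mul_assoc _ t, ← mC.mp (H.le (mul_mem (hy q.1) (inv_mem (hy p.1)))), inv_mul_cancel_left]
          rw [← k] at e2 ⊢
          exact nD _ e2
      exact Prod.ext (yi _ _ e3) (Subtype.ext (mul_left_cancel (e3 ▸ e1)))
    rw [Nat.card_prod] at h2
    nlinarith
  have cA : ∀ c ∈ Q, (u⁻¹ * c * u = c ∨ u⁻¹ * c * u = c * t) → c ∈ Ce u := fun c hc h => by
    refine mC.mpr (h.elim (fun e => by rw [← inv_mul_eq_iff_eq_mul, ← mul_assoc, e]) fun e => (nt c hc ?_).elim)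
    calc _ = (u⁻¹ * c * u)⁻¹ * c := by rw [ν, mul_inv_rev, mul_inv_rev, inv_inv, ui]; group
      _ = t := by rw [e, mul_inv_rev, H.ti, inv_mul_cancel_right]
  have nA : ∀ y ∈ Q, ν u y ∈ Ce u := fun y hy => cA _ (nQ y hy) (ninv y ▸ H.inv_eq (nQ y hy))
  let f : O ⊕ O → ↥(Q ⊓ Ce u) := Sum.elim (fun v => ⟨ν u (y v), nQ _ (hy v), nA _ (hy v)⟩)
    fun v => ⟨ν u (y v) * t, mul_mem (nQ _ (hy v)) H.tQ, mul_mem (nA _ (hy v)) (mC.mpr P.cm.symm)⟩
  have k : ∀ v w, ν u (y w) ≠ ν u (y v) * t := fun v w e => nt _ (mul_mem (hy w) (inv_mem (hy v))) (by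
    have := dv (y v) (y w)
    rw [e, inv_mul_cancel_left] at this
    calc _ = y v * ((y v)⁻¹ * ν u (y w * (y v)⁻¹) * y v) * (y v)⁻¹ := by group
      _ = _ := by rw [← this, mC.mp (H.le (hy v)), mul_inv_cancel_right])
  have fi : Function.Injective f := by
    rintro (v | v) (w | w) e <;> have e' := congrArg Subtype.val e
    exacts [congrArg _ (yi _ _ e'), (k _ _ e').elim, (k _ _ e'.symm).elim, congrArg _ (yi _ _ (mul_right_cancel e'))]
  have h1 := Nat.card_le_card_of_injective f fi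
  rw [Nat.card_sum] at h1
  have h2 : 16 ≤ Nat.card O := by nlinarith
  have fs := ((Nat.bijective_iff_injective_and_card f).mpr ⟨fi, by rw [Nat.card_sum]; omega⟩).2
  have fr : ∀ c ∈ Q ⊓ Ce u, ∃ y ∈ Q, c = ν u y ∨ c = ν u y * t := fun c hc => by
    obtain ⟨v | v, e⟩ := fs ⟨c, hc⟩ <;> have e' := congrArg Subtype.val e
    exacts [⟨_, hy v, .inl e'.symm⟩, ⟨_, hy v, .inr e'.symm⟩]
  refine ⟨by omega, ?_, fun c hc e => fr c ⟨hc, cA c hc ?_⟩, nA, h2⟩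
  · by_contra! h
    have dn : ∀ d ∈ Q ⊓ Ce u ⊓ Q', d ≠ 1 → ∃ y ∈ Q, d = ν u y * t := fun d hd d1 => by
      obtain ⟨y, hy, e | e⟩ := fr d hd.1
      exacts [absurd (e.trans (nD y (e ▸ hd.2))) d1, ⟨y, hy, e⟩]
    have tn : ∀ y ∈ Q, ∀ x, t * (ν u y * x) = ν u y * (t * x) := fun y hy x => by
      rw [← mul_assoc, ← mC.mp (H.le (nQ y hy)), mul_assoc]
    have tt : ∀ x, t * (t * x) = x := fun x => by rw [← mul_assoc, H.tt, one_mul]
    have β : ∀ y ∈ Q, ∀ z ∈ Q, ν u y * t ∈ Q' → ν u z * t ∈ Q' → ν u z * t * (ν u y * t) ≠ 1 →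
        z⁻¹ * ν u y * z = ν u y * t := fun y hy z hz a b c => by
      have e1 : ν u z * t * (ν u y * t) = ν u z * ν u y := by simp only [mul_assoc, tn y hy, H.tt, mul_one]
      have := H.cj (inv_mem hz) (nQ y hy)
      rw [inv_inv] at this
      refine this.resolve_left fun e => c ?_
      rw [e1, ← e, ← nm]
      exact nD _ (by rw [nm, e, ← e1]; exact mul_mem b a)
    obtain ⟨d1, m1, n1⟩ := exists_notMem (l := [1]) (D := Q ⊓ Ce u ⊓ Q') (lt_trans (by simp) h)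
    obtain ⟨d2, m2, n2⟩ := exists_notMem (l := [1, d1⁻¹]) (D := Q ⊓ Ce u ⊓ Q') (lt_trans (by simp) h)
    obtain ⟨d3, m3, n3⟩ := exists_notMem (l := [1, d1⁻¹, d2⁻¹, d1⁻¹ * d2⁻¹]) (D := Q ⊓ Ce u ⊓ Q') h
    simp only [List.mem_cons, List.not_mem_nil, or_false, not_or] at n1 n2 n3
    obtain ⟨y1, q1, rfl⟩ := dn d1 m1 n1
    obtain ⟨y2, q2, rfl⟩ := dn d2 m2 n2.1
    obtain ⟨y3, q3, rfl⟩ := dn d3 m3 n3.1
    have b12 := β y1 q1 y2 q2 m1.2 m2.2 fun e => n2.2 (eq_inv_of_mul_eq_one_left e)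
    have b13 := β y1 q1 y3 q3 m1.2 m3.2 fun e => n3.2.1 (eq_inv_of_mul_eq_one_left e)
    have b23 := β y2 q2 y3 q3 m2.2 m3.2 fun e => n3.2.2.1 (eq_inv_of_mul_eq_one_left e)
    have e1 : ν u (y2 * y3) * t = ν u y3 * t * (ν u y2 * t) := by
      rw [nm, b23]; simp only [mul_assoc, tn y2 q2]
    have b := β y1 q1 _ (mul_mem q2 q3) m1.2 (e1 ▸ mul_mem m3.2 m2.2) fun e => n3.2.2.2 (by
      rw [← mul_inv_rev]; exact eq_inv_of_mul_eq_one_left (by rw [← mul_assoc, ← e1, e]))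
    refine H.t1 (mul_left_cancel (a := ν u y1) ?_)
    calc _ = y3⁻¹ * (y2⁻¹ * ν u y1 * y2) * y3 := by rw [← b]; group
      _ = y3⁻¹ * ν u y1 * y3 * t := by rw [b12, mul_assoc _ y3, mC.mp (H.le q3)]; group
      _ = _ := by rw [b13, mul_assoc, H.tt]
  · rw [show u⁻¹ * c * u = c⁻¹ from eq_inv_of_mul_eq_one_left (by rw [ui, mul_assoc, e])]
    exact H.inv_eq hc

theorem full (P : Pr t u Q Q' φ φ') (i : Fin 3) : Perm.sign (φ u i) = -1 := by
  have H := P.H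
  have uC : u ∈ Ce t := mC.mpr P.cm
  by_contra h
  have h1 : φ u i = 1 := (by decide : ∀ σ : S3, σ * σ = 1 → ¬ Perm.sign σ = -1 → σ = 1) _
    (by rw [← Pi.mul_apply, ← H.φ_mul uC uC, P.H'.tt, H.φ_one]; rfl) h
  obtain ⟨x, hx, e⟩ := H.surj (Pi.mulSingle i (finRotate 3))
  have h2 : u * (x * u * x⁻¹) ∈ Q := by
    have := H.mem_of_eq uC (mul_mem (mul_mem hx uC) (inv_mem hx)) (funext fun j => by
      simp (maxDischargeDepth := 9) only [H.φ_mul, H.φ_inv, mul_mem, inv_mem, hx, uC, e, Pi.mul_apply, Pi.inv_apply]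
      by_cases k : j = i
      · rw [k, h1]; simp
      · simp [Pi.mulSingle_eq_of_ne k])
    rwa [conj_inv, P.H'.ti] at this
  obtain ⟨y, hy, e1⟩ := P.side.2.2.1 _ h2 (by rw [← mul_assoc u u, P.H'.tt, one_mul, conj_mul, P.H'.tt]; simp)
  have yx := mul_mem (H.le hy) hx
  have h3 : y * x * (y * x) ∈ Ce u := by
    have e2 : y * x * u * (y * x)⁻¹ = u ∨ y * x * u * (y * x)⁻¹ = u * t := by
      refine e1.imp (fun e => ?_) fun e => ?_
      · calc _ = y * (x * u * x⁻¹) * y⁻¹ := by group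
          _ = _ := by rw [mul_left_cancel (e.trans (ν.eq_1 u y))]; group
      · calc _ = y * (x * u * x⁻¹) * y⁻¹ := by group
          _ = u * (y * t * y⁻¹) := by rw [mul_left_cancel (e.trans (by rw [ν, mul_assoc]))]; group
          _ = _ := by rw [mC.mp (H.le hy), mul_inv_cancel_right]
    generalize y * x = v at *
    refine mC.mpr (mul_inv_eq_iff_eq_mul.mp ?_)
    rw [show v * v * u * (v * v)⁻¹ = v * (v * u * v⁻¹) * v⁻¹ by group]
    rcases e2 with e | e <;> rw [e]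
    · exact e
    · rw [← conj_mul, e, mC.mp yx, mul_inv_cancel_right, mul_assoc, H.tt, mul_one]
  obtain ⟨s1, s2, -⟩ := P.symm.side
  obtain ⟨b, hb, e2⟩ := (H.eight inf_le_right fun x hx => P.H'.pow4 hx.1).2 (by omega) fun _ => -1
  have := H.cen_sgn P.H' hb (mul_mem yx yx) h3 (e2 i)
  simp (maxDischargeDepth := 9) only [H.φ_mul, mul_mem, hx, H.le hy, e, H.φ_Q hy, one_mul, Pi.mul_apply,
    Pi.mulSingle_eq_same] at this
  exact (by decide : ∀ s : S3, Perm.sign s = -1 → ¬ (finRotate 3 * finRotate 3 = 1 ∨ finRotate 3 * finRotate 3 = s))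
    _ (e2 i) this

end Pr

theorem Hyp.not_wc (H : Hyp t Q φ) (h1 : IsConj t u) (h2 : u * t = t * u) (h3 : u ≠ t) :
    ∃ w ∈ Q, IsConj t w ∧ w ≠ t := by
  by_contra! h
  have wc : ∀ {v : G} {R : Subgroup G} {ψ : G → Fin 3 → S3}, Hyp v R ψ → IsConj t v → ∀ z, IsConj t z → z ∈ R → z = v := by
    intro v R ψ K hv z hz hR
    obtain ⟨g, rfl⟩ := isConj_iff.mp hv
    rw [← h _ (K.link H (h := g⁻¹) (by group) hR) (hz.trans (isConj_iff.mpr ⟨_, rfl⟩))]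
    group
  obtain ⟨Q', φ', H'⟩ := H.exists_conj h1
  have P : Pr t u Q Q' φ φ' := ⟨H, H', h2, h3, h1, wc H (IsConj.refl t), wc H' h1⟩
  obtain ⟨-, s2, -, s4, s5⟩ := P.side
  have : {w | ∃ r ∈ Q, r * u * r⁻¹ = w} ⊆ insert u ((fun d => u * t * d) '' (Q ⊓ Ce u ⊓ Q' : Subgroup G)) := by
    rintro _ ⟨r, hr, rfl⟩
    by_cases e : r * u * r⁻¹ = u
    · exact .inl e
    have c : IsConj t (r * u * r⁻¹) := h1.trans (isConj_iff.mpr ⟨r, rfl⟩)
    obtain ⟨Q1, φ1, H1⟩ := H.exists_conj c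
    have tu : t ∈ Ce u := mC.mpr h2.symm
    have n1 : u * (r * u * r⁻¹) ∈ Ce u := by simpa [ν] using s4 _ (inv_mem hr)
    have n2 : r * u * r⁻¹ ∈ Ce u := (mul_mem_cancel_left H'.tC).mp n1
    have P1 : Pr u (r * u * r⁻¹) Q' Q1 φ' φ1 := ⟨H', H1, mC.mp n2, e, h1.symm.trans c,
      fun z hz => wc H' h1 z (h1.trans hz), fun z hz => wc H1 c z (h1.trans hz)⟩
    have n3 : t * (u * (r * u * r⁻¹)) ∈ Q ⊓ Ce u := mem_inf.mpr ⟨mul_mem H.tQ (by
      convert mul_mem (H.nrm (mC.mpr h2) hr) (inv_mem hr) using 1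
      rw [H'.ti]; group), mul_mem tu n1⟩
    refine .inr ⟨_, ⟨n3, H'.even_mem inf_le_right (fun x hx => H.pow4 hx.1) n3 fun i => ?_⟩, ?_⟩
    · rw [H'.φ_mul tu n1, H'.φ_mul H'.tC n2, H'.φ_Q H'.tQ, one_mul, Pi.mul_apply, map_mul, P.symm.full, P1.full]
      simp
    · show u * t * _ = _
      rw [mul_assoc, ← mul_assoc t t, H.tt, one_mul, ← mul_assoc u u, H'.tt, one_mul]
  have h4 := (Set.ncard_le_ncard this).trans ((Set.ncard_insert_le _ _).trans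
    (Nat.add_le_add_right Set.ncard_image_le 1))
  rw [M11.ncard_coe] at h4
  omega

end Cfsg.Agent.O8
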